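import Cfsg.Agent.H796.TorData
import Cfsg.Agent.S1065
import Cfsg.Agent.S1093

/-!
# S5161, the row E8(q), q odd (helper796)
-/

set_option autoImplicit false
set_option linter.unusedSectionVars false

namespace Cfsg.Agent.H796.RowE8

open CoxeterSystem Cfsg Cfsg.Lie Cfsg.Lie.ChevalleyDatum
open Cfsg.Agent.ChevalleyStructure Cfsg.Agent.ChevalleyStructure.Elts Cfsg.Agent.ChevalleyStructure.CoxeterGeom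
  Cfsg.Agent.ChevalleyStructure.CoxeterGeomTypes
open Cfsg.Agent.Tits.Roots Cfsg.Agent.Tits.Core Cfsg.Agent.Nodes Cfsg.Agent.Nodes.BNOf Cfsg.Agent.Nodes.RGDChev
open Cfsg.Agent.H129.TorusChar Cfsg.Agent.H129.WData
open Cfsg.Agent.H796.TorData

universe u

/-- the Cartan matrix -/
def A : Mat 8 := ![![2, 0, -1, 0, 0, 0, 0, 0], ![0, 2, 0, -1, 0, 0, 0, 0], ![-1, 0, 2, -1, 0, 0, 0, 0], ![0, -1, -1, 2, -1, 0, 0, 0], ![0, 0, 0, -1, 2, -1, 0, 0], ![0, 0, 0, 0, -1, 2, -1, 0], ![0, 0, 0, 0, 0, -1, 2, -1], ![0, 0, 0, 0, 0, 0, -1, 2]]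
/-- the chain of the element with a single Jordan block -/
def Lw : List (Fin 8 × Mat 8) := [(5, ![![0, 0, 1, 1, 0, 0, 0, 0], ![0, 1, 0, 1, 0, 0, 0, 0], ![-1, 0, -1, -1, 0, 0, 0, 0], ![1, 0, 1, 1, 1, 1, 0, 0], ![0, 0, 0, -1, -1, -1, 0, 0], ![0, 0, 0, 1, 1, 1, 1, 0], ![0, 0, 0, 0, 0, 0, 0, 1], ![0, 0, 0, 0, 0, -1, -1, -1]]),
  (3, ![![0, 0, 1, 1, 0, 0, 0, 0], ![0, 1, 0, 1, 0, 0, 0, 0], ![-1, 0, -1, -1, 0, 0, 0, 0], ![1, 0, 1, 1, 1, 0, 0, 0], ![0, 0, 0, -1, -1, 0, 0, 0], ![0, 0, 0, 1, 1, 1, 1, 0], ![0, 0, 0, 0, 0, 0, 0, 1], ![0, 0, 0, 0, 0, 0, -1, -1]]),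
  (0, ![![0, 0, 1, 0, 0, 0, 0, 0], ![0, 1, 0, 0, 0, 0, 0, 0], ![-1, 0, -1, 0, 0, 0, 0, 0], ![1, 0, 1, 1, 1, 0, 0, 0], ![0, 0, 0, 0, -1, 0, 0, 0], ![0, 0, 0, 0, 1, 1, 1, 0], ![0, 0, 0, 0, 0, 0, 0, 1], ![0, 0, 0, 0, 0, 0, -1, -1]]),
  (2, ![![1, 0, 1, 0, 0, 0, 0, 0], ![0, 1, 0, 0, 0, 0, 0, 0], ![0, 0, -1, 0, 0, 0, 0, 0], ![0, 0, 1, 1, 1, 0, 0, 0], ![0, 0, 0, 0, -1, 0, 0, 0], ![0, 0, 0, 0, 1, 1, 1, 0], ![0, 0, 0, 0, 0, 0, 0, 1], ![0, 0, 0, 0, 0, 0, -1, -1]]),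
  (6, ![![1, 0, 0, 0, 0, 0, 0, 0], ![0, 1, 0, 0, 0, 0, 0, 0], ![0, 0, 1, 0, 0, 0, 0, 0], ![0, 0, 0, 1, 1, 0, 0, 0], ![0, 0, 0, 0, -1, 0, 0, 0], ![0, 0, 0, 0, 1, 1, 1, 0], ![0, 0, 0, 0, 0, 0, 0, 1], ![0, 0, 0, 0, 0, 0, -1, -1]]),
  (7, ![![1, 0, 0, 0, 0, 0, 0, 0], ![0, 1, 0, 0, 0, 0, 0, 0], ![0, 0, 1, 0, 0, 0, 0, 0], ![0, 0, 0, 1, 1, 0, 0, 0], ![0, 0, 0, 0, -1, 0, 0, 0], ![0, 0, 0, 0, 1, 1, 0, 0], ![0, 0, 0, 0, 0, 0, 1, 1], ![0, 0, 0, 0, 0, 0, 0, -1]]),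
  (4, ![![1, 0, 0, 0, 0, 0, 0, 0], ![0, 1, 0, 0, 0, 0, 0, 0], ![0, 0, 1, 0, 0, 0, 0, 0], ![0, 0, 0, 1, 1, 0, 0, 0], ![0, 0, 0, 0, -1, 0, 0, 0], ![0, 0, 0, 0, 1, 1, 0, 0], ![0, 0, 0, 0, 0, 0, 1, 0], ![0, 0, 0, 0, 0, 0, 0, 1]])]
def X2 : Mat 8 := ![![0, 0, 0, 0, 1, 1, 0, 0], ![1, 1, 1, 2, 1, 1, 0, 0], ![0, 0, -1, -1, -1, -1, 0, 0], ![0, 0, 1, 1, 1, 1, 1, 0], ![-1, 0, -1, -1, -1, -1, -1, 0], ![1, 0, 1, 1, 1, 1, 1, 1], ![0, 0, 0, 0, 0, -1, -1, -1], ![0, 0, 0, -1, -1, 0, 0, 0]]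
def X4 : Mat 8 := ![![0, 0, 0, 0, 0, 0, 0, 1], ![1, 1, 2, 3, 3, 3, 2, 1], ![0, 0, 0, 0, 0, 0, -1, -1], ![0, 0, 0, 0, 0, -1, 0, 0], ![0, 0, 0, 0, -1, 0, 0, 0], ![0, 0, 0, -1, 0, 0, 0, 0], ![-1, 0, -1, 0, 0, 0, 0, 0], ![1, 0, 0, 0, 0, 0, 0, 0]]
def X8 : Mat 8 := ![![1, 0, 0, 0, 0, 0, 0, 0], ![0, 1, 0, 0, 0, 0, 0, 0], ![0, 0, 1, 0, 0, 0, 0, 0], ![0, 0, 0, 1, 0, 0, 0, 0], ![0, 0, 0, 0, 1, 0, 0, 0], ![0, 0, 0, 0, 0, 1, 0, 0], ![0, 0, 0, 0, 0, 0, 1, 0], ![0, 0, 0, 0, 0, 0, 0, 1]]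
def x1 : Fin 8 → ℤ := ![0, 1, 0, 0, 0, 0, 0, 0]
def mu : Fin 8 → ℤ := ![0, 1, 0, 0, 0, 0, 0, 0]
def Y : Mat 8 := ![![0, 1, 1, 0, 0, 0, 0, 0], ![0, 0, 0, 0, 0, 0, 0, 0], ![1, 0, 1, 0, 0, 0, 0, 0], ![0, 1, 0, 0, 0, 0, 0, 0], ![1, 0, 0, 1, 1, 0, 0, 0], ![0, 1, 0, 0, 1, 0, 0, 0], ![1, 1, 0, 1, 1, 1, 0, 0], ![1, 1, 0, 1, 1, 1, 1, 0]]
def Z : Mat 8 := ![![1, 0, 1, 0, 0, 0, 0, 0], ![0, 0, 0, 0, 0, 0, 0, 0], ![1, 0, 1, 0, 0, 0, 0, 0], ![0, 0, 0, 0, 0, 0, 0, 0], ![0, 0, -1, 0, 1, 0, 0, 0], ![0, 0, 0, 0, 1, 1, 0, 0], ![0, 0, -1, -1, 0, 0, 0, 0], ![0, 0, -1, -1, 0, 0, 0, 0]]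
/-- the chain of the Coxeter element -/
def Lc : List (Fin 8 × Mat 8) := [(0, ![![0, 0, 1, 0, 0, 0, 0, 0], ![1, 0, 1, 1, 0, 0, 0, 0], ![0, 1, 0, 1, 0, 0, 0, 0], ![0, 0, 0, 0, 1, 0, 0, 0], ![0, 0, 0, 0, 0, 1, 0, 0], ![0, 0, 0, 0, 0, 0, 1, 0], ![0, 0, 0, 0, 0, 0, 0, 1], ![-1, -1, -1, -1, -1, -1, -1, -1]]),
  (1, ![![1, 0, 1, 0, 0, 0, 0, 0], ![0, 0, 1, 1, 0, 0, 0, 0], ![0, 1, 0, 1, 0, 0, 0, 0], ![0, 0, 0, 0, 1, 0, 0, 0], ![0, 0, 0, 0, 0, 1, 0, 0], ![0, 0, 0, 0, 0, 0, 1, 0], ![0, 0, 0, 0, 0, 0, 0, 1], ![0, -1, -1, -1, -1, -1, -1, -1]]),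
  (2, ![![1, 0, 1, 0, 0, 0, 0, 0], ![0, 1, 1, 1, 0, 0, 0, 0], ![0, 0, 0, 1, 0, 0, 0, 0], ![0, 0, 0, 0, 1, 0, 0, 0], ![0, 0, 0, 0, 0, 1, 0, 0], ![0, 0, 0, 0, 0, 0, 1, 0], ![0, 0, 0, 0, 0, 0, 0, 1], ![0, 0, -1, -1, -1, -1, -1, -1]]),
  (3, ![![1, 0, 0, 0, 0, 0, 0, 0], ![0, 1, 0, 1, 0, 0, 0, 0], ![0, 0, 1, 1, 0, 0, 0, 0], ![0, 0, 0, 0, 1, 0, 0, 0], ![0, 0, 0, 0, 0, 1, 0, 0], ![0, 0, 0, 0, 0, 0, 1, 0], ![0, 0, 0, 0, 0, 0, 0, 1], ![0, 0, 0, -1, -1, -1, -1, -1]]),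
  (4, ![![1, 0, 0, 0, 0, 0, 0, 0], ![0, 1, 0, 0, 0, 0, 0, 0], ![0, 0, 1, 0, 0, 0, 0, 0], ![0, 0, 0, 1, 1, 0, 0, 0], ![0, 0, 0, 0, 0, 1, 0, 0], ![0, 0, 0, 0, 0, 0, 1, 0], ![0, 0, 0, 0, 0, 0, 0, 1], ![0, 0, 0, 0, -1, -1, -1, -1]]),
  (5, ![![1, 0, 0, 0, 0, 0, 0, 0], ![0, 1, 0, 0, 0, 0, 0, 0], ![0, 0, 1, 0, 0, 0, 0, 0], ![0, 0, 0, 1, 0, 0, 0, 0], ![0, 0, 0, 0, 1, 1, 0, 0], ![0, 0, 0, 0, 0, 0, 1, 0], ![0, 0, 0, 0, 0, 0, 0, 1], ![0, 0, 0, 0, 0, -1, -1, -1]]),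
  (6, ![![1, 0, 0, 0, 0, 0, 0, 0], ![0, 1, 0, 0, 0, 0, 0, 0], ![0, 0, 1, 0, 0, 0, 0, 0], ![0, 0, 0, 1, 0, 0, 0, 0], ![0, 0, 0, 0, 1, 0, 0, 0], ![0, 0, 0, 0, 0, 1, 1, 0], ![0, 0, 0, 0, 0, 0, 0, 1], ![0, 0, 0, 0, 0, 0, -1, -1]]),
  (7, ![![1, 0, 0, 0, 0, 0, 0, 0], ![0, 1, 0, 0, 0, 0, 0, 0], ![0, 0, 1, 0, 0, 0, 0, 0], ![0, 0, 0, 1, 0, 0, 0, 0], ![0, 0, 0, 0, 1, 0, 0, 0], ![0, 0, 0, 0, 0, 1, 0, 0], ![0, 0, 0, 0, 0, 0, 1, 1], ![0, 0, 0, 0, 0, 0, 0, -1]])]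
def C2 : Mat 8 := ![![0, 1, 0, 1, 0, 0, 0, 0], ![0, 1, 1, 1, 1, 0, 0, 0], ![1, 0, 1, 1, 1, 0, 0, 0], ![0, 0, 0, 0, 0, 1, 0, 0], ![0, 0, 0, 0, 0, 0, 1, 0], ![0, 0, 0, 0, 0, 0, 0, 1], ![-1, -1, -1, -1, -1, -1, -1, -1], ![0, 0, -1, -1, 0, 0, 0, 0]]
def C3 : Mat 8 := ![![1, 0, 1, 1, 1, 0, 0, 0], ![1, 1, 1, 2, 1, 1, 0, 0], ![0, 1, 1, 1, 1, 1, 0, 0], ![0, 0, 0, 0, 0, 0, 1, 0], ![0, 0, 0, 0, 0, 0, 0, 1], ![-1, -1, -1, -1, -1, -1, -1, -1], ![0, 0, -1, -1, 0, 0, 0, 0], ![0, -1, 0, -1, -1, 0, 0, 0]]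
def C4 : Mat 8 := ![![0, 1, 1, 1, 1, 1, 0, 0], ![1, 1, 2, 2, 2, 1, 1, 0], ![1, 1, 1, 2, 1, 1, 1, 0], ![0, 0, 0, 0, 0, 0, 0, 1], ![-1, -1, -1, -1, -1, -1, -1, -1], ![0, 0, -1, -1, 0, 0, 0, 0], ![0, -1, 0, -1, -1, 0, 0, 0], ![-1, 0, -1, -1, -1, -1, 0, 0]]
def C7 : Mat 8 := ![![0, 1, 1, 2, 1, 1, 0, 0], ![1, 2, 2, 3, 3, 2, 1, 1], ![1, 1, 1, 2, 2, 1, 1, 0], ![0, -1, 0, -1, -1, 0, 0, 0], ![-1, 0, -1, -1, -1, -1, 0, 0], ![0, -1, -1, -1, -1, -1, -1, 0], ![-1, -1, -1, -2, -1, -1, -1, -1], ![0, 0, -1, -1, -1, 0, 0, 0]]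
def C8 : Mat 8 := ![![1, 1, 1, 2, 2, 1, 1, 0], ![1, 1, 2, 3, 2, 2, 1, 0], ![1, 1, 2, 2, 2, 2, 1, 1], ![-1, 0, -1, -1, -1, -1, 0, 0], ![0, -1, -1, -1, -1, -1, -1, 0], ![-1, -1, -1, -2, -1, -1, -1, -1], ![0, 0, -1, -1, -1, 0, 0, 0], ![0, -1, 0, -1, -1, -1, 0, 0]]
def C15 : Mat 8 := ![![-1, 0, 0, 0, 0, 0, 0, 0], ![0, -1, 0, 0, 0, 0, 0, 0], ![0, 0, -1, 0, 0, 0, 0, 0], ![0, 0, 0, -1, 0, 0, 0, 0], ![0, 0, 0, 0, -1, 0, 0, 0], ![0, 0, 0, 0, 0, -1, 0, 0], ![0, 0, 0, 0, 0, 0, -1, 0], ![0, 0, 0, 0, 0, 0, 0, -1]]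
def Kb : Mat 8 := ![![1, 0, 0, 0, 0, 0, 0, 0], ![0, 0, 1, 0, 0, 0, 0, 0], ![0, 0, 0, 1, 0, 0, 0, 0], ![0, 1, 0, 0, 0, 0, 0, 0], ![0, 0, 0, 0, 1, 0, 0, 0], ![0, 0, 0, 0, 0, 1, 0, 0], ![0, 0, 0, 0, 0, 0, 1, 0], ![0, 0, 0, 0, 0, 0, 0, 1]]
def KC : Mat 8 := ![![1, 0, 0, 0, 0, 0, 0, 0], ![0, 0, 0, 1, 0, 0, 0, 0], ![0, 1, 0, 0, 0, 0, 0, 0], ![0, 0, 1, 0, 0, 0, 0, 0], ![0, 0, 0, 0, 1, 0, 0, 0], ![0, 0, 0, 0, 0, 1, 0, 0], ![0, 0, 0, 0, 0, 0, 1, 0], ![0, 0, 0, 0, 0, 0, 0, 1]]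
def Kpar : Fin 8 → Fin 8 := ![0, 0, 1, 2, 2, 4, 5, 6]

theorem isType : IsType chevE8 8 CoxeterMatrix.E₈ := by simp [IsType, typeList]
theorem hA : ∀ i j, A i j = cartanOf chevE8 8 i j := by decide +kernel
theorem Lw_ok : ChainOK A Lw := by decide +kernel
theorem Lc_ok : ChainOK A Lc := by decide +kernel
theorem hX2 : ∀ j m, X2 j m = ∑ n, hd Lw j n * hd Lw n m := by decide +kernel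
theorem hX4 : ∀ j m, X4 j m = ∑ n, X2 j n * X2 n m := by decide +kernel
theorem hX8 : ∀ j m, X8 j m = ∑ n, X4 j n * X4 n m := by decide +kernel
theorem hX8' : ∀ j m, X8 j m = if j = m then 1 else 0 := by decide +kernel
theorem hC2 : ∀ j m, C2 j m = ∑ n, hd Lc j n * hd Lc n m := by decide +kernel
theorem hC4 : ∀ j m, C4 j m = ∑ n, C2 j n * C2 n m := by decide +kernel
theorem hC3 : ∀ j m, C3 j m = ∑ n, hd Lc j n * C2 n m := by decide +kernel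
theorem hC7 : ∀ j m, C7 j m = ∑ n, C3 j n * C4 n m := by decide +kernel
theorem hC8 : ∀ j m, C8 j m = ∑ n, C4 j n * C4 n m := by decide +kernel
theorem hC15 : ∀ j m, C15 j m = ∑ n, C7 j n * C8 n m := by decide +kernel
theorem hC15' : ∀ j m, C15 j m = if j = m then -1 else 0 := by decide +kernel
theorem hJ : JOK 8 (hd Lw) x1 mu Y Z := by decide +kernel
theorem hKOK : KOK chevE8 8 Kb KC Kpar := by decide +kernel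

/-- **The row of `E₈(q)`, `q` odd.** -/
theorem row_E8 {F : Type u} [Field F] [Fintype F] (hodd : Odd (Fintype.card F)) :
    Cfsg.Agent.H747.RowTwo ↥(chevE8.group F) := by
  left
  obtain ⟨q, hq⟩ : ∃ q, Fintype.card F = q := ⟨_, rfl⟩
  rw [hq] at hodd
  have hW : Nat.card CoxeterMatrix.E₈.Group = 696729600 :=
    Cfsg.Agent.S1093.result (⟨8, CoxeterMatrix.E₈⟩, 696729600) (by simp)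
  have : Finite CoxeterMatrix.E₈.Group := Nat.finite_of_card_ne_zero (by rw [hW]; norm_num)
  obtain ⟨cs, -⟩ : ∃ cs : CoxeterSystem CoxeterMatrix.E₈ CoxeterMatrix.E₈.Group, True :=
    ⟨CoxeterMatrix.E₈.toCoxeterSystem, trivial⟩
  have h1 := chain_rep isType cs hA Lw_ok
  have h2 := rep_mul_mat isType cs h1 h1 hX2
  have h4 := rep_mul_mat isType cs h2 h2 hX4
  have h8 := rep_mul_mat isType cs h4 h4 hX8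
  have c1 := chain_rep isType cs hA Lc_ok
  have c2 := rep_mul_mat isType cs c1 c1 hC2
  have c4 := rep_mul_mat isType cs c2 c2 hC4
  have c3 := rep_mul_mat isType cs c2 c1 hC3
  have c7 := rep_mul_mat isType cs c4 c3 hC7
  have c8 := rep_mul_mat isType cs c4 c4 hC8
  have c15 := rep_mul_mat isType cs c8 c7 hC15
  have hw8 := eq_one_of_mat isType cs h8 hX8'
  refine oddRow_of isType cs hq hodd invC_E8 (by norm_num) ⟨_, neg_of_mat isType cs c15 hC15'⟩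
    (hK_of isType cs hKOK (by norm_num)) (w := cs.wordProd (Lw.map Prod.fst)) (n := 3) ?_
    (hJ_of isType cs h1 hJ) ?_
  · have e : ∀ w : CoxeterMatrix.E₈.Group, w * w * (w * w) * (w * w * (w * w)) = w ^ 2 ^ 3 := fun w => by
      show _ = w ^ 8
      simp only [pow_succ, pow_zero, one_mul, mul_assoc]
    rw [← e]
    exact hw8
  · intro m hm hm0 hqm c hc h2c
    refine odd_of_card (l := 8) hm hm0 hqm [2, 8, 12, 14, 18, 20, 24, 30] (by decide) rfl (c := c) (N := 120) ?_ h2c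
    rw [S1065.result hq, hW] at hc
    simp only [List.prod_cons, List.prod_nil, List.map_cons, List.map_nil]
    calc m ^ 8 * (2 * (8 * (12 * (14 * (18 * (20 * (24 * (30 * 1)))))))) * c = m ^ 8 * 696729600 * c := by ring
      _ = q ^ 120 * (q ^ 2 - 1) * (q ^ 8 - 1) * (q ^ 12 - 1) * (q ^ 14 - 1) * (q ^ 18 - 1) * (q ^ 20 - 1) *
        (q ^ 24 - 1) * (q ^ 30 - 1) := hc
      _ = _ := by ring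

end Cfsg.Agent.H796.RowE8
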