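import Cfsg.Agent.H796.SlSmall
import Cfsg.Agent.H355.Fixity

/-!
# Groups of fixity two with a normal subgroup `SL₂(q)`: `|Y| = 48` (helper796, for S3392)

Main result: `sl2_case`.
-/

set_option autoImplicit false
set_option linter.unusedSectionVars false
set_option linter.unusedVariables false

open Cfsg

namespace Cfsg.Agent.H796.SlCase

open MulAction SlBig SlThree

namespace Cfg

variable {Y : Type*} [Group Y] [Finite Y] {D K : Subgroup Y} {t z : Y} (c : Cfg D K t z)
  {L : Subgroup Y} [hL : L.Normal] (hLK : L ≤ K) (e : L ≃* M)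

include c hLK

/-- elements of `K` centralizing `O₂(L)` -/
theorem cent_le [hK : K.Normal] (hO : Cfsg.oddCore Y = ⊥) {x : Y} (hx : x ∈ K)
    (hcx : ∀ g : L, e g ^ 4 = 1 → x * g = g * x) : x = 1 ∨ x = z := by
  classical
  obtain ⟨hz, hez⟩ := c.ez hLK e
  -- the normal subgroup of all these elements
  let C : Subgroup Y :=
    { carrier := {x | x ∈ K ∧ ∀ g : L, e g ^ 4 = 1 → x * g = g * x}
      one_mem' := ⟨one_mem _, fun g _ => by rw [one_mul, mul_one]⟩
      mul_mem' := by
        rintro a b ⟨ha, ha'⟩ ⟨hb, hb'⟩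
        refine ⟨mul_mem ha hb, fun g hg => ?_⟩
        rw [mul_assoc, hb' g hg, ← mul_assoc, ha' g hg, mul_assoc]
      inv_mem' := by
        rintro a ⟨ha, ha'⟩
        refine ⟨inv_mem ha, fun g hg => ?_⟩
        have := ha' g hg
        rw [inv_mul_eq_iff_eq_mul, ← mul_assoc, this, mul_inv_cancel_right] }
  have hCn : C.Normal := by
    constructor
    rintro n ⟨hn, hn'⟩ y
    refine ⟨hK.conj_mem n hn y, fun g hg => ?_⟩
    -- `y⁻¹ g y` is again a 2-element of `L`
    have h1 : e ⟨y⁻¹ * g * y, by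
        have := hL.conj_mem _ g.2 y⁻¹
        rwa [inv_inv] at this⟩ ^ 4 = 1 := by
      rw [← map_pow, ← map_one e]
      congr 1
      apply Subtype.ext
      show (y⁻¹ * (g : Y) * y) ^ 4 = 1
      have h2 : (g : Y) ^ 4 = 1 := by
        rw [← map_pow, ← map_one e] at hg
        exact congrArg Subtype.val (e.injective hg)
      have h3 : y⁻¹ * (g : Y) * y = y⁻¹ * (g : Y) * y⁻¹⁻¹ := by rw [inv_inv]
      rw [h3, conj_pow, h2]
      group
    have h2 : n * (y⁻¹ * (g : Y) * y) = y⁻¹ * (g : Y) * y * n := hn' _ h1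
    calc y * n * y⁻¹ * g = y * (n * (y⁻¹ * (g : Y) * y)) * y⁻¹ := by group
      _ = y * (y⁻¹ * (g : Y) * y * n) * y⁻¹ := by rw [h2]
      _ = _ := by group
  have hzC : z ∈ C := ⟨c.hzK, fun g _ => c.hzc g⟩
  -- 2-elements
  have hfour : ∀ x ∈ C, x ^ 4 = 1 → x = 1 ∨ x = z := by
    rintro x ⟨hxK, hxc⟩ hx4
    have h1 : (x * x) * (x * x) = 1 := by
      rw [← pow_two, ← pow_two, ← pow_mul]; exact hx4
    rcases c.sq_eq (mul_mem hxK hxK) h1 with h2 | h2
    · exact c.sq_eq hxK h2
    · exfalso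
      have key : ∀ i : M, i ^ 2 = -1 → x = (e.symm i : L) ∨ x = ((e.symm i : L) : Y)⁻¹ := by
        intro i hi
        have hi4 : e (e.symm i) ^ 4 = 1 := by
          rw [e.apply_symm_apply, show (4 : ℕ) = 2 * 2 from rfl, pow_mul, hi, f12.2]
        have hi2 : ((e.symm i : L) : Y) * (e.symm i : L) = z := by
          have h3 : e.symm i * e.symm i = ⟨z, hz⟩ := by
            apply e.injective
            rw [map_mul, e.apply_symm_apply, hez, ← pow_two, hi]
          exact congrArg Subtype.val h3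
        have h3 := hxc _ hi4
        have h4 : (x * (e.symm i : L)) * (x * (e.symm i : L)) = 1 := by
          calc (x * (e.symm i : L)) * (x * (e.symm i : L))
              = x * ((e.symm i : L) * x) * (e.symm i : L) := by group
            _ = x * (x * (e.symm i : L)) * (e.symm i : L) := by rw [h3]
            _ = (x * x) * ((e.symm i : L) * (e.symm i : L)) := by group
            _ = 1 := by rw [h2, hi2, c.zz]
        rcases c.sq_eq (mul_mem hxK (hLK (e.symm i).2)) h4 with h5 | h5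
        · right
          exact eq_inv_of_mul_eq_one_left h5
        · left
          have h6 : x = z * ((e.symm i : L) : Y)⁻¹ := by rw [← h5, mul_inv_cancel_right]
          rw [h6, ← hi2, mul_inv_cancel_right]
      have hi := key i0 f7.1
      have hj := key j0 f7.2.1
      have hne1 : ((e.symm j0 : L) : Y) ≠ (e.symm i0 : L) := fun h =>
        f7.2.2.1 (e.symm.injective (Subtype.ext h))
      have hne2 : ((e.symm j0 : L) : Y) ≠ ((e.symm i0 : L) : Y)⁻¹ := fun h =>
        f7.2.2.2 (e.symm.injective (by rw [map_inv]; exact Subtype.ext h))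
      rcases hi with hi | hi <;> rcases hj with hj | hj
      · exact hne1 (hj.symm.trans hi)
      · apply hne2
        rw [← inv_inj, inv_inv, ← hj, hi]
      · exact hne2 (hj.symm.trans hi)
      · apply hne1
        rw [← inv_inj, ← hj, hi]
  have : Fact (Nat.Prime 2) := ⟨Nat.prime_two⟩
  have h4 : ¬ 4 ∣ Nat.card C := by
    intro h4
    obtain ⟨V, hV⟩ := Sylow.exists_subgroup_card_pow_prime (G := C) 2 (n := 2) (by norm_num; exact h4)
    have h1 : ∀ v ∈ V, (v : Y) = 1 ∨ (v : Y) = z := by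
      intro v hv
      apply hfour v v.2
      have h2 := Subgroup.orderOf_dvd_natCard V hv
      rw [hV] at h2
      have h3 : v ^ 4 = 1 := orderOf_dvd_iff_pow_eq_one.1 (by simpa using h2)
      exact congrArg Subtype.val h3
    have h2 : (V.map C.subtype : Set Y) ⊆ {1, z} := by
      rintro _ ⟨v, hv, rfl⟩
      exact h1 v hv
    have h3 := Set.ncard_le_ncard h2 (Set.toFinite _)
    have h4 := Set.ncard_insert_le (1 : Y) {z}
    rw [Set.ncard_singleton] at h4
    have h5 : (V.map C.subtype : Set Y).ncard = 4 := by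
      have := Subgroup.card_map_of_injective (K := V) (f := C.subtype) C.subtype_injective
      rw [hV] at this
      exact this
    omega
  -- the normal complement
  let Z : Subgroup C := Subgroup.zpowers ⟨z, hzC⟩
  have hZn : Z.Normal := by
    constructor
    intro n hn g
    obtain ⟨k, rfl⟩ := Subgroup.mem_zpowers_iff.1 hn
    have h1 : g * (⟨z, hzC⟩ : C) ^ k * g⁻¹ = (⟨z, hzC⟩ : C) ^ k := by
      have h2 : Commute g (⟨z, hzC⟩ : C) := Subtype.ext (c.hzc g).symm
      rw [(h2.zpow_right k).eq, mul_inv_cancel_right]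
    rw [h1]
    exact Subgroup.mem_zpowers_iff.2 ⟨k, rfl⟩
  have hZc : Nat.card Z = 2 := by
    rw [Nat.card_zpowers, Subgroup.orderOf_mk, c.hz]
  have hZi := Subgroup.card_mul_index Z
  rw [hZc] at hZi
  have hcop : Nat.Coprime (Nat.card Z) Z.index := by
    rw [hZc, Nat.coprime_two_left]
    rw [← Nat.not_even_iff_odd, even_iff_two_dvd]
    rintro ⟨k, hk⟩
    exact h4 ⟨k, by rw [← hZi, hk]; ring⟩
  obtain ⟨N, hN⟩ := Subgroup.exists_right_complement'_of_coprime hcop
  have hNcard := hN.card_mul_card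
  rw [hZc] at hNcard
  have hNodd : (Nat.card N).Coprime 2 := by
    rw [Nat.coprime_two_right, ← Nat.not_even_iff_odd, even_iff_two_dvd]
    rintro ⟨k, hk⟩
    exact h4 ⟨k, by rw [← hNcard, hk]; ring⟩
  have hNi : N.index = 2 := by
    have h5 := Subgroup.card_mul_index N
    have h6 : 0 < Nat.card N := Nat.card_pos
    rw [← hNcard, mul_comm 2] at h5
    exact Nat.eq_of_mul_eq_mul_left h6 h5
  have hNn : N.Normal := Subgroup.normal_of_index_eq_two hNi
  have hNle := Lib.Cores.le_pPrimeCore hNn hNodd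
  have hNbot : N = ⊥ := by
    rw [eq_bot_iff]
    intro n hn
    have h5 : (n : Y) ∈ (pPrimeCore 2 C).map C.subtype := ⟨n, hNle hn, rfl⟩
    rw [Lib.Cores.map_subtype_pPrimeCore 2 hCn] at h5
    have h6 : (n : Y) ∈ Cfsg.oddCore Y := h5.2
    rw [hO, Subgroup.mem_bot] at h6
    exact Subgroup.mem_bot.2 (Subtype.ext h6)
  rw [hNbot, Subgroup.card_bot] at hNcard
  -- `|C| = 2`
  have hxC : x ∈ C := ⟨hx, hcx⟩
  have h7 : (⟨x, hxC⟩ : C) ^ 2 = 1 := by
    have := pow_card_eq_one' (x := (⟨x, hxC⟩ : C))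
    rwa [← hNcard] at this
  have h8 : x * x = 1 := by
    rw [← pow_two]
    exact congrArg Subtype.val h7
  exact c.sq_eq hx h8

include e in
/-- `|K| ≤ 48` -/
theorem card_le [hK : K.Normal] (hO : Cfsg.oddCore Y = ⊥) : Nat.card K ≤ 48 := by
  classical
  obtain ⟨hz, hez⟩ := c.ez hLK e
  let P := {p : M × M // p.1 ^ 2 = -1 ∧ p.2 ^ 2 = -1 ∧ p.2 ≠ p.1 ∧ p.2 ≠ p.1⁻¹}
  -- conjugation by `x ∈ K`
  let κ : K → L → L := fun x g => ⟨x * g * (x : Y)⁻¹, hL.conj_mem _ g.2 x⟩
  have κ_mul : ∀ x g k, κ x (g * k) = κ x g * κ x k := fun x g k => Subtype.ext (by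
    show (x : Y) * (g * k) * (x : Y)⁻¹ = x * g * (x : Y)⁻¹ * (x * k * (x : Y)⁻¹)
    group)
  have κ_inv : ∀ x g, κ x g⁻¹ = (κ x g)⁻¹ := fun x g => Subtype.ext (by
    show (x : Y) * (g : Y)⁻¹ * (x : Y)⁻¹ = ((x : Y) * g * (x : Y)⁻¹)⁻¹
    group)
  have κ_inj : ∀ x g k, κ x g = κ x k → g = k := by
    intro x g k h
    have h1 : (x : Y) * g * (x : Y)⁻¹ = x * k * (x : Y)⁻¹ := congrArg Subtype.val h
    exact Subtype.ext (mul_left_cancel (mul_right_cancel h1))
  have κz : ∀ x, κ x ⟨z, hz⟩ = ⟨z, hz⟩ := fun x => Subtype.ext (by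
    show (x : Y) * z * (x : Y)⁻¹ = z
    rw [← c.hzc, mul_inv_cancel_right])
  have κsq : ∀ x g, e g ^ 2 = -1 → e (κ x g) ^ 2 = -1 := by
    intro x g hg
    rw [← hez, ← map_pow] at hg ⊢
    have h1 := e.injective hg
    rw [pow_two] at h1 ⊢
    rw [← κ_mul, h1, κz]
  let f : K → P := fun x => ⟨(e (κ x (e.symm i0)), e (κ x (e.symm j0))), by
    refine ⟨κsq _ _ (by rw [e.apply_symm_apply]; exact f7.1), κsq _ _ (by rw [e.apply_symm_apply]; exact f7.2.1),
      fun h => f7.2.2.1 (e.symm.injective (κ_inj x _ _ (e.injective h))), fun h => f7.2.2.2 ?_⟩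
    have h' : e (κ x (e.symm j0)) = (e (κ x (e.symm i0)))⁻¹ := h
    rw [← map_inv, ← κ_inv, ← map_inv] at h'
    exact e.symm.injective (κ_inj x _ _ (e.injective h'))⟩
  have h1 : Nat.card K ≤ 2 * Nat.card P := by
    refine card_le_two_mul f (⟨z, c.hzK⟩ : K) ?_
    intro x y hxy
    have h2 := congrArg Subtype.val hxy
    have hi : κ x (e.symm i0) = κ y (e.symm i0) := e.injective (congrArg Prod.fst h2)
    have hj : κ x (e.symm j0) = κ y (e.symm j0) := e.injective (congrArg Prod.snd h2)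
    have hall : ∀ g : L, e g ^ 4 = 1 → κ x g = κ y g := by
      intro g hg
      have hk1 : κ x (e.symm 1) = κ y (e.symm 1) := by
        rw [map_one]
        apply Subtype.ext
        show (x : Y) * 1 * (x : Y)⁻¹ = y * 1 * (y : Y)⁻¹
        group
      have hk2 : κ x (e.symm (-1)) = κ y (e.symm (-1)) := by
        rw [← hez, e.symm_apply_apply, κz, κz]
      rw [← e.symm_apply_apply g]
      rcases f10 (e g) hg with h | h | h | h | h | h | h | h <;> rw [h]
      · exact hk1
      · exact hk2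
      · exact hi
      · rw [map_inv, κ_inv, κ_inv, hi]
      · exact hj
      · rw [map_inv, κ_inv, κ_inv, hj]
      · rw [map_mul, κ_mul, κ_mul, hi, hj]
      · rw [map_inv, κ_inv, κ_inv, map_mul, κ_mul, κ_mul, hi, hj]
    have h3 := c.cent_le hLK e hO (x := (y : Y)⁻¹ * x) (mul_mem (inv_mem y.2) x.2) (by
      intro g hg
      have h4 : (x : Y) * g * (x : Y)⁻¹ = y * g * (y : Y)⁻¹ := congrArg Subtype.val (hall g hg)
      calc (y : Y)⁻¹ * x * g = (y : Y)⁻¹ * (x * g * (x : Y)⁻¹) * x := by group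
        _ = (y : Y)⁻¹ * (y * g * (y : Y)⁻¹) * x := by rw [h4]
        _ = _ := by group)
    rcases h3 with h3 | h3
    · left
      exact Subtype.ext (inv_mul_eq_one.1 h3).symm
    · right
      apply Subtype.ext
      show (x : Y) = y * z
      rw [← h3, mul_inv_cancel_left]
  rw [Nat.card_eq_fintype_card (α := P)] at h1
  have h2 : Fintype.card P = 24 := f6
  omega

end Cfg

/-- `SL₂` of isomorphic fields -/
def slEquiv {F K : Type*} [Field F] [Field K] (r : F ≃+* K) :
    Matrix.SpecialLinearGroup (Fin 2) F ≃* Matrix.SpecialLinearGroup (Fin 2) K where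
  toFun := Matrix.SpecialLinearGroup.map (r : F →+* K)
  invFun := Matrix.SpecialLinearGroup.map (r.symm : K →+* F)
  left_inv g := by
    apply Subtype.ext
    ext i j
    show r.symm (r (g.1 i j)) = g.1 i j
    rw [r.symm_apply_apply]
  right_inv g := by
    apply Subtype.ext
    ext i j
    show r (r.symm (g.1 i j)) = g.1 i j
    rw [r.apply_symm_apply]
  map_mul' := map_mul _

/-- **LSP-G** -/
theorem sl2_case {Y : Type*} [Group Y] [Finite Y] {Ω : Type*} [Finite Ω] [MulAction Y Ω] [FaithfulSMul Y Ω]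
    (h : H355.Lsp.Fix2 Y Ω) (heven : ∀ α : Ω, Even (Nat.card (MulAction.stabilizer Y α))) (hO : Cfsg.oddCore Y = ⊥)
    (S : Sylow 2 Y) (hS : Cfsg.IsQuasiDihedral (S : Subgroup Y)) {z : Y} (hz : orderOf z = 2)
    (hzc : z ∈ Subgroup.center Y) (K L : Subgroup Y) (hK : K.Normal) (hK2 : K.index = 2)
    (hKS : ∀ P : Sylow 2 ↥K, ∃ m : ℕ, 1 ≤ m ∧ Nonempty ((P : Subgroup ↥K) ≃* QuaternionGroup (2 ^ m)))
    (hKi : ∀ H : Subgroup ↥K, H.index ≠ 2) (hL : L.Normal) (hLK : L ≤ K)
    (hLe : ∃ (F : Type) (_ : Field F) (_ : Fintype F), Odd (Fintype.card F) ∧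
      Nonempty (L ≃* Matrix.SpecialLinearGroup (Fin 2) F)) :
    ∃ (α : Ω) (t : Y) (H : Subgroup Y), t ∈ MulAction.stabilizer Y α ∧ orderOf t = 2 ∧ t ∈ H ∧ H.index = 8 ∧
      ∀ g ∈ H, g * t = t * g → g = 1 ∨ g = t := by
  classical
  obtain ⟨F, hF, hF', hFo, ⟨e⟩⟩ := hLe
  have : Fact (Nat.Prime 2) := ⟨Nat.prime_two⟩
  have h2F : (2 : F) ≠ 0 := by
    obtain ⟨m, hm⟩ := hFo
    intro h
    have h1 : ((Fintype.card F : ℕ) : F) = 0 := by simp
    rw [hm] at h1
    push_cast at h1
    rw [h, zero_mul, zero_add] at h1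
    exact one_ne_zero h1
  -- the involution of `L`
  have hneg : (-1 : Matrix.SpecialLinearGroup (Fin 2) F) ≠ 1 := by
    intro h
    have h1 := congrArg (fun x : Matrix.SpecialLinearGroup (Fin 2) F => x.1 0 0) h
    simp at h1
    apply h2F
    linear_combination -h1
  have hz2 : orderOf (((e.symm (-1) : L) : Y)) = 2 := by
    rw [Subgroup.orderOf_coe, MulEquiv.orderOf_eq]
    apply orderOf_eq_prime
    · rw [pow_two, neg_mul_neg, one_mul]
    · exact hneg
  have hcl : ∀ g : L, (e.symm (-1)) * g = g * e.symm (-1) := by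
    intro g
    apply e.injective
    rw [map_mul, map_mul, e.apply_symm_apply, neg_mul, mul_neg, one_mul, mul_one]
  have hzK' : ((e.symm (-1) : L) : Y) ∈ K := hLK (e.symm (-1)).2
  -- uniqueness in `K` among commuting involutions
  let P : Sylow 2 ↥K := default
  obtain ⟨m, hm, ⟨eP⟩⟩ := hKS P
  have huniq : ∀ x y : ↥K, x ∈ P → y ∈ P → orderOf x = 2 → orderOf y = 2 → x = y := fun x y hx hy =>
    CharDeep.QuatSylowBasic.unique_of_equiv eP x y hx hy
  have hcomK : ∀ x y : ↥K, orderOf x = 2 → orderOf y = 2 → Commute x y → x = y := fun x y hx hy hxy =>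
    CharDeep.QuatSylowBasic.eq_of_commute P huniq hx hy hxy
  -- `z' = e⁻¹(-1)` is central in `Y`
  generalize hz' : ((e.symm (-1) : L) : Y) = z' at *
  have hzL : z' ∈ L := by rw [← hz']; exact (e.symm (-1)).2
  have hzcL : ∀ g ∈ L, z' * g = g * z' := by
    intro g hg
    have h1 := congrArg Subtype.val (hcl ⟨g, hg⟩)
    rw [← hz']
    exact h1
  have hzc' : ∀ g : Y, z' * g = g * z' := by
    intro g
    have h1 : g * z' * g⁻¹ ∈ L := hL.conj_mem _ hzL g
    have h2 : orderOf (g * z' * g⁻¹) = 2 := by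
      rw [← hz2]
      exact orderOf_injective (MulAut.conj g).toMonoidHom (MulAut.conj g).injective z'
    have h3 := hcomK ⟨g * z' * g⁻¹, hLK h1⟩ ⟨z', hzK'⟩ (by rw [Subgroup.orderOf_mk, h2])
      (by rw [Subgroup.orderOf_mk, hz2]) (Subtype.ext (hzcL _ h1).symm)
    have h4 : g * z' * g⁻¹ = z' := congrArg Subtype.val h3
    rw [mul_inv_eq_iff_eq_mul] at h4
    exact h4.symm
  have huq : ∀ x ∈ K, orderOf x = 2 → x = z' := by
    intro x hx hx2
    exact congrArg Subtype.val (hcomK ⟨x, hx⟩ ⟨z', hzK'⟩ (by rw [Subgroup.orderOf_mk, hx2])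
      (by rw [Subgroup.orderOf_mk, hz2]) (Subtype.ext (hzc' x).symm))
  have hz1 : z' ≠ 1 := by
    rintro rfl
    rw [orderOf_one] at hz2
    omega
  -- a point
  obtain ⟨g₀, hg₀, hg₀2⟩ := h.ex
  have hne : Nonempty (MulAction.fixedBy Ω g₀) := by
    rw [← Finite.card_pos_iff, hg₀2]
    norm_num
  obtain ⟨α, hα₀⟩ := hne
  have hzα : z' • α ≠ α := fun h1 =>
    hz1 (H355.eq_one_of_center h.tr (Subgroup.mem_center_iff.2 fun g => (hzc' g).symm) α h1)
  obtain ⟨t, ht⟩ := exists_prime_orderOf_dvd_card' (G := MulAction.stabilizer Y α) 2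
    (even_iff_two_dvd.1 (heven α))
  have ht2 : orderOf (t : Y) = 2 := by rw [Subgroup.orderOf_coe, ht]
  have hinf : stabilizer Y α ⊓ stabilizer Y (z' • α) = stabilizer Y α := by
    apply le_antisymm inf_le_left
    intro d hd
    refine ⟨hd, ?_⟩
    show d • z' • α = z' • α
    rw [← mul_smul, ← hzc', mul_smul, mem_stabilizer_iff.1 hd]
  have ht1 : (t : Y) ≠ 1 := by
    intro h1
    rw [h1, orderOf_one] at ht2
    omega
  have hnb : stabilizer Y α ⊓ stabilizer Y (z' • α) ≠ ⊥ := by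
    rw [hinf]
    intro h1
    have h2 : (t : Y) ∈ (⊥ : Subgroup Y) := h1 ▸ t.2
    exact ht1 (Subgroup.mem_bot.1 h2)
  have hN : ∀ g : Y, g ∈ Subgroup.normalizer ((stabilizer Y α : Subgroup Y) : Set Y) →
      g ∈ stabilizer Y α ∨ z' * g ∈ stabilizer Y α := by
    intro g hg
    have h1 := H355.TwoPoint.mem_normalizer_iff (G := Y) (Ω := Ω) h.fix hzα.symm hnb (g := g)
    rw [hinf] at h1
    rcases h1.1 hg with h2 | h2
    · exact Or.inl h2.1
    · right
      show (z' * g) • α = α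
      rw [hzc', mul_smul, h2.2]
  have hti := (H355.TwoPoint.eti (G := Y) (Ω := Ω) h.fix hzα.symm hnb).ti
  rw [hinf] at hti
  have c : Cfg (stabilizer Y α) K (t : Y) z' :=
    { hz := hz2
      hzc := hzc'
      hzK := hzK'
      uniq := huq
      hzD := fun h1 => hzα h1
      htD := t.2
      ht := ht2
      ti := fun g d hd hd1 hg => hN g (hti g d hd hd1 hg) }
  have hq : Fintype.card F = 3 := by
    by_contra hq
    have h1 : 1 < Fintype.card F := Fintype.one_lt_card
    obtain ⟨m, hm⟩ := hFo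
    exact c.big hLK e ⟨m, hm⟩ (by omega)
  let e' : L ≃* M := e.trans (slEquiv (ZMod.ringEquivOfPrime F (by norm_num) hq)).symm
  obtain ⟨y, hyK, hy3, hyt⟩ := c.exists_y hLK e'
  obtain ⟨H, htH, hH, hCH⟩ := c.exists_H hyK hy3 hyt
  refine ⟨α, t, H, t.2, ht2, htH, ?_, hCH⟩
  -- orders
  have hcardL : Nat.card L = 24 := by
    rw [Nat.card_congr e'.toEquiv, Nat.card_eq_fintype_card, f11]
  have hKle := c.card_le hLK e' hO
  have h1 := Subgroup.card_mul_index (L.subgroupOf K)
  rw [Nat.card_congr (Subgroup.subgroupOfEquivOfLe hLK).toEquiv, hcardL] at h1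
  have h2 := hKi (L.subgroupOf K)
  have h3 : (L.subgroupOf K).index = 1 := by
    have h4 : (L.subgroupOf K).index ≠ 0 := Subgroup.index_ne_zero_of_finite
    omega
  have h4 : Nat.card K = 24 := by rw [← h1, h3]
  have h5 := Subgroup.card_mul_index K
  rw [h4, hK2] at h5
  have h6 := Subgroup.card_mul_index H
  rw [hH, ← h5] at h6
  omega

end Cfsg.Agent.H796.SlCase
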