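import Cfsg.Agent.H796.TorData
import Cfsg.Agent.S1062
import Cfsg.Agent.S1092

/-!
# S5161, the row F4(q), q odd (helper796)
-/

set_option autoImplicit false
set_option linter.unusedSectionVars false

namespace Cfsg.Agent.H796.RowF4

open CoxeterSystem Cfsg Cfsg.Lie Cfsg.Lie.ChevalleyDatum
open Cfsg.Agent.ChevalleyStructure Cfsg.Agent.ChevalleyStructure.Elts Cfsg.Agent.ChevalleyStructure.CoxeterGeom
  Cfsg.Agent.ChevalleyStructure.CoxeterGeomTypes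
open Cfsg.Agent.Tits.Roots Cfsg.Agent.Tits.Core Cfsg.Agent.Nodes Cfsg.Agent.Nodes.BNOf Cfsg.Agent.Nodes.RGDChev
open Cfsg.Agent.H129.TorusChar Cfsg.Agent.H129.WData
open Cfsg.Agent.H796.TorData

universe u

/-- the Cartan matrix -/
def A : Mat 4 := ![![2, -1, 0, 0], ![-1, 2, -2, 0], ![0, -1, 2, -1], ![0, 0, -1, 2]]
/-- the chain of the element with a single Jordan block -/
def Lw : List (Fin 4 × Mat 4) := [(3, ![![0, 1, 0, 0], ![-1, -2, -1, -1], ![2, 2, 1, 1], ![0, 2, 2, 1]]),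
  (2, ![![0, 1, 0, 0], ![-1, -2, -1, 0], ![2, 2, 1, 0], ![0, 2, 2, 1]]),
  (1, ![![0, 1, 1, 0], ![-1, -2, -1, 0], ![2, 2, 1, 0], ![0, 2, 1, 1]]),
  (2, ![![0, 1, 1, 0], ![-1, -1, -1, 0], ![2, 2, 1, 0], ![0, 0, 1, 1]]),
  (0, ![![0, 1, 0, 0], ![-1, -1, 0, 0], ![2, 2, 1, 0], ![0, 0, 0, 1]]),
  (1, ![![1, 1, 0, 0], ![0, -1, 0, 0], ![0, 2, 1, 0], ![0, 0, 0, 1]])]
def X2 : Mat 4 := ![![-1, -2, -1, -1], ![0, -1, -1, 0], ![0, 2, 1, 0], ![2, 2, 2, 1]]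
def X4 : Mat 4 := ![![-1, 0, 0, 0], ![0, -1, 0, 0], ![0, 0, -1, 0], ![0, 0, 0, -1]]
def X8 : Mat 4 := ![![1, 0, 0, 0], ![0, 1, 0, 0], ![0, 0, 1, 0], ![0, 0, 0, 1]]
def x1 : Fin 4 → ℤ := ![1, 0, 0, 0]
def mu : Fin 4 → ℤ := ![1, 1, 0, 0]
def Y : Mat 4 := ![![0, 0, 0, 0], ![1, 0, 0, 0], ![1, 1, 1, 0], ![0, 0, 1, 0]]
def Z : Mat 4 := ![![0, 0, 0, 0], ![0, 0, 0, 0], ![0, 0, 1, 0], ![-1, -1, 0, 0]]
/-- the chain of the Coxeter element -/
def Lc : List (Fin 4 × Mat 4) := [(0, ![![0, 1, 0, 0], ![1, 1, 1, 0], ![0, 0, 0, 1], ![-2, -2, -1, -1]]),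
  (1, ![![1, 1, 0, 0], ![0, 1, 1, 0], ![0, 0, 0, 1], ![0, -2, -1, -1]]),
  (2, ![![1, 0, 0, 0], ![0, 1, 1, 0], ![0, 0, 0, 1], ![0, 0, -1, -1]]),
  (3, ![![1, 0, 0, 0], ![0, 1, 0, 0], ![0, 0, 1, 1], ![0, 0, 0, -1]])]
def C2 : Mat 4 := ![![1, 1, 1, 0], ![1, 2, 1, 1], ![-2, -2, -1, -1], ![0, -2, -1, 0]]
def C4 : Mat 4 := ![![0, 1, 1, 0], ![1, 1, 1, 1], ![-2, -2, -2, -1], ![0, -2, -1, -1]]
def C6 : Mat 4 := ![![-1, 0, 0, 0], ![0, -1, 0, 0], ![0, 0, -1, 0], ![0, 0, 0, -1]]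
def Kb : Mat 4 := ![![1, 0, 0, 0], ![0, 1, 0, 0], ![0, 1, 1, 0], ![0, 1, 1, 1]]
def KC : Mat 4 := ![![1, 0, 0, 0], ![0, 1, 0, 0], ![0, -1, 1, 0], ![0, 0, -1, 1]]
def Kpar : Fin 4 → Fin 4 := ![0, 0, 0, 0]

theorem isType : IsType chevF4 4 CoxeterMatrix.F₄ := by simp [IsType, typeList]
theorem hA : ∀ i j, A i j = cartanOf chevF4 4 i j := by decide +kernel
theorem Lw_ok : ChainOK A Lw := by decide +kernel
theorem Lc_ok : ChainOK A Lc := by decide +kernel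
theorem hX2 : ∀ j m, X2 j m = ∑ n, hd Lw j n * hd Lw n m := by decide +kernel
theorem hX4 : ∀ j m, X4 j m = ∑ n, X2 j n * X2 n m := by decide +kernel
theorem hX8 : ∀ j m, X8 j m = ∑ n, X4 j n * X4 n m := by decide +kernel
theorem hX8' : ∀ j m, X8 j m = if j = m then 1 else 0 := by decide +kernel
theorem hC2 : ∀ j m, C2 j m = ∑ n, hd Lc j n * hd Lc n m := by decide +kernel
theorem hC4 : ∀ j m, C4 j m = ∑ n, C2 j n * C2 n m := by decide +kernel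
theorem hC6 : ∀ j m, C6 j m = ∑ n, C2 j n * C4 n m := by decide +kernel
theorem hC6' : ∀ j m, C6 j m = if j = m then -1 else 0 := by decide +kernel
theorem hJ : JOK 4 (hd Lw) x1 mu Y Z := by decide +kernel
theorem hKOK : KOK chevF4 4 Kb KC Kpar := by decide +kernel

/-- **The row of `F₄(q)`, `q` odd.** -/
theorem row_F4 {F : Type u} [Field F] [Fintype F] (hodd : Odd (Fintype.card F)) :
    Cfsg.Agent.H747.RowTwo ↥(chevF4.group F) := by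
  left
  obtain ⟨q, hq⟩ : ∃ q, Fintype.card F = q := ⟨_, rfl⟩
  rw [hq] at hodd
  have hW : Nat.card CoxeterMatrix.F₄.Group = 1152 :=
    Cfsg.Agent.S1092.result (⟨4, CoxeterMatrix.F₄⟩, 1152) (by simp)
  have : Finite CoxeterMatrix.F₄.Group := Nat.finite_of_card_ne_zero (by rw [hW]; norm_num)
  obtain ⟨cs, -⟩ : ∃ cs : CoxeterSystem CoxeterMatrix.F₄ CoxeterMatrix.F₄.Group, True :=
    ⟨CoxeterMatrix.F₄.toCoxeterSystem, trivial⟩
  have h1 := chain_rep isType cs hA Lw_ok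
  have h2 := rep_mul_mat isType cs h1 h1 hX2
  have h4 := rep_mul_mat isType cs h2 h2 hX4
  have h8 := rep_mul_mat isType cs h4 h4 hX8
  have c1 := chain_rep isType cs hA Lc_ok
  have c2 := rep_mul_mat isType cs c1 c1 hC2
  have c4 := rep_mul_mat isType cs c2 c2 hC4
  have c6 := rep_mul_mat isType cs c4 c2 hC6
  have hw8 := eq_one_of_mat isType cs h8 hX8'
  refine oddRow_of isType cs hq hodd invC_F4 (by norm_num) ⟨_, neg_of_mat isType cs c6 hC6'⟩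
    (hK_of isType cs hKOK (by norm_num)) (w := cs.wordProd (Lw.map Prod.fst)) (n := 3) ?_
    (hJ_of isType cs h1 hJ) ?_
  · have e : ∀ w : CoxeterMatrix.F₄.Group, w * w * (w * w) * (w * w * (w * w)) = w ^ 2 ^ 3 := fun w => by
      show _ = w ^ 8
      simp only [pow_succ, pow_zero, one_mul, mul_assoc]
    rw [← e]
    exact hw8
  · intro m hm hm0 hqm c hc h2c
    refine odd_of_card (l := 4) hm hm0 hqm [2, 6, 8, 12] (by decide) rfl (c := c) (N := 24) ?_ h2c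
    rw [S1062.result hq, hW] at hc
    simp only [List.prod_cons, List.prod_nil, List.map_cons, List.map_nil]
    calc m ^ 4 * (2 * (6 * (8 * (12 * 1)))) * c = m ^ 4 * 1152 * c := by ring
      _ = q ^ 24 * (q ^ 2 - 1) * (q ^ 6 - 1) * (q ^ 8 - 1) * (q ^ 12 - 1) := hc
      _ = _ := by ring

end Cfsg.Agent.H796.RowF4
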