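import Cfsg.Agent.H799.JSheet
import Cfsg.Agent.S0205

/-!
# The condition `Phi` from a sheet (helper796)

* `phi_of_cent` : `Phi S` from a 2-subgroup `V` normalised by `C(z)`, `C(V) ≤ V`, `z` the only involution of `Z(S)`,
  when `C(z)` has no proper normal subgroup containing `S`;
* `phi_of_cor` : `Phi S` for every Sylow 2-subgroup from the sheet `Cor z P R`, `|C(z) : P| ≤ 2`;
* `isSimple_of_cor` : the 2-fusion system is simple.
-/

set_option autoImplicit false

namespace Cfsg.Agent.H796.PhiCor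

open Subgroup Cfsg Cfsg.Agent.Foote Cfsg.Agent.H799.JSheet

variable {G : Type*} [Group G]

/-- a perfect subgroup of a group of odd order is trivial. -/
theorem eq_bot_of_perfect_odd {Q : Type*} [Group Q] [Finite Q] (ho : Odd (Nat.card Q)) {A : Subgroup Q}
    (hA : ⁅A, A⁆ = A) : A = ⊥ := by
  have h1 : Group.IsSolvable Q := S0205.result ho
  obtain ⟨n, hn⟩ := h1.solvable
  have h2 : ∀ m, A ≤ derivedSeries Q m := by
    intro m
    induction m with
    | zero => exact le_top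
    | succ k ih =>
      rw [derivedSeries_succ, ← hA]
      exact commutator_mono ih ih
  exact le_bot_iff.1 (hn ▸ h2 n)

/-- **The condition `Phi` from the centralizer of an involution.** -/
theorem phi_of_cent [Finite G] {z : G} {V : Subgroup G} {S : Sylow 2 G}
    (hz1 : z ≠ 1) (hzS : z ∈ S) (hcS : ∀ x ∈ S, x * z = z * x)
    (hZ : ∀ y ∈ S, (∀ x ∈ S, x * y = y * x) → y * y = 1 → y = 1 ∨ y = z) (hzz : z * z = 1)
    (hV2 : IsPGroup 2 V) (hVn : ∀ c, c * z = z * c → ∀ v ∈ V, c * v * c⁻¹ ∈ V)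
    (hCV : ∀ c, (∀ v ∈ V, c * v = v * c) → c ∈ V)
    (hO : ∀ M : Subgroup G, M ≤ centralizer ({z} : Set G) → (∀ c, c * z = z * c → ∀ m ∈ M, c * m * c⁻¹ ∈ M) →
      (S : Subgroup G) ≤ M → centralizer ({z} : Set G) ≤ M) : Phi (S : Subgroup G) := by
  have : Fact (Nat.Prime 2) := ⟨Nat.prime_two⟩
  have hSC : (S : Subgroup G) ≤ centralizer ({z} : Set G) := fun x hx =>
    mem_centralizer_singleton_iff.2 (hcS x hx)
  have hCn : centralizer ({z} : Set G) ≤ normalizer (V : Set G) := by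
    intro c hc
    rw [mem_centralizer_singleton_iff] at hc
    rw [mem_normalizer_iff]
    intro x
    constructor
    · exact fun hx => hVn c hc x hx
    · intro hx
      have h1 : c⁻¹ * z = z * c⁻¹ := by
        have := congrArg (fun t => c⁻¹ * t * c⁻¹) hc
        simp only [mul_assoc, inv_mul_cancel_left, mul_inv_cancel, mul_one] at this
        exact this.symm
      have h2 := hVn _ h1 _ hx
      have e : c⁻¹ * (c * x * c⁻¹) * c⁻¹⁻¹ = x := by group
      rwa [e] at h2
  have hSn : (S : Subgroup G) ≤ normalizer (V : Set G) := hSC.trans hCn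
  have hVS : V ≤ (S : Subgroup G) := by
    have h1 : IsPGroup 2 ↥((S : Subgroup G) ⊔ V) := S.2.to_sup_of_normal_right' hV2 hSn
    have h2 := S.3 h1 le_sup_left
    rw [← h2]
    exact le_sup_right
  refine ⟨V, hVS, hSn, ?_, ?_⟩
  · intro c hc
    exact hCV c fun v hv => (mem_centralizer_iff.1 hc v hv).symm
  · -- `N(S) ≤ C(z) ≤ M`
    obtain ⟨M, hM⟩ : ∃ M : Subgroup G, M = closure {x | ∃ n ∈ centralizer ({z} : Set G), ∃ s ∈ (S : Subgroup G),
      x = n * s * n⁻¹} := ⟨_, rfl⟩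
    have hMle : M ≤ closure {x | ∃ n ∈ normalizer (V : Set G), ∃ s ∈ (S : Subgroup G), x = n * s * n⁻¹} := by
      rw [hM]
      apply Subgroup.closure_mono
      rintro x ⟨n, hn, s, hs, rfl⟩
      exact ⟨n, hCn hn, s, hs, rfl⟩
    refine le_trans ?_ hMle
    have h1 : centralizer ({z} : Set G) ≤ M := by
      refine hO M ?_ ?_ ?_
      · rw [hM, closure_le]
        rintro x ⟨n, hn, s, hs, rfl⟩
        exact mul_mem (mul_mem hn (hSC hs)) (inv_mem hn)
      · intro c hc m hm
        have h2 : M.map (MulAut.conj c).toMonoidHom ≤ M := by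
          rw [hM, MonoidHom.map_closure, closure_le]
          rintro _ ⟨x, ⟨n, hn, s, hs, rfl⟩, rfl⟩
          refine subset_closure ⟨c * n, mul_mem (mem_centralizer_singleton_iff.2 hc) hn, s, hs, ?_⟩
          show c * (n * s * n⁻¹) * c⁻¹ = c * n * s * (c * n)⁻¹
          group
        exact h2 ⟨m, hm, rfl⟩
      · intro s hs
        rw [hM]
        exact subset_closure ⟨1, one_mem _, s, hs, by simp⟩
    refine le_trans ?_ h1
    intro g hg
    rw [mem_centralizer_singleton_iff]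
    have hg1 : g * z * g⁻¹ ∈ S := (mem_normalizer_iff.1 hg z).1 hzS
    rcases hZ _ hg1 (fun x hx => by
      have h3 : g⁻¹ * x * g ∈ (S : Subgroup G) := by
        have := (mem_normalizer_iff.1 (inv_mem hg) x).1 hx
        rwa [inv_inv] at this
      have h4 := hcS _ h3
      calc x * (g * z * g⁻¹) = g * (g⁻¹ * x * g * z) * g⁻¹ := by group
        _ = g * (z * (g⁻¹ * x * g)) * g⁻¹ := by rw [h4]
        _ = g * z * g⁻¹ * x := by group) (by
      calc g * z * g⁻¹ * (g * z * g⁻¹) = g * (z * z) * g⁻¹ := by group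
        _ = 1 := by rw [hzz]; group) with h2 | h2
    · exfalso
      apply hz1
      have : z = g⁻¹ * (g * z * g⁻¹) * g := by group
      rw [this, h2]; group
    · calc g * z = g * z * g⁻¹ * g := by group
        _ = z * g := by rw [h2]

/-- `C(z)` has no proper normal subgroup containing the Sylow subgroup `S`, if it has a perfect subgroup of index at
most two. -/
theorem cent_le_of_perfect [Finite G] {z : G} {P : Subgroup G} {S : Sylow 2 G}
    (hcS : ∀ x ∈ S, x * z = z * x) (hP : ⁅P, P⁆ = P) (hPc : ∀ x ∈ P, x * z = z * x)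
    (hidx : ∀ x y : G, x * z = z * x → y * z = z * y → x ∉ P → y ∉ P → x * y ∈ P)
    (M : Subgroup G) (hMC : M ≤ centralizer ({z} : Set G))
    (hMn : ∀ c, c * z = z * c → ∀ m ∈ M, c * m * c⁻¹ ∈ M) (hSM : (S : Subgroup G) ≤ M) :
    centralizer ({z} : Set G) ≤ M := by
  have : Fact (Nat.Prime 2) := ⟨Nat.prime_two⟩
  obtain ⟨C, hC⟩ : ∃ C : Subgroup G, C = centralizer ({z} : Set G) := ⟨_, rfl⟩
  have hCm : ∀ c : G, c ∈ C ↔ c * z = z * c := fun c => by rw [hC, mem_centralizer_singleton_iff]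
  rw [← hC] at hMC ⊢
  have hN : (M.subgroupOf C).Normal := ⟨fun n hn g => by
    rw [mem_subgroupOf] at hn ⊢
    simpa using hMn g ((hCm _).1 g.2) n hn⟩
  have hodd : Odd (Nat.card (C ⧸ M.subgroupOf C)) := by
    have h1 : ¬ 2 ∣ (S : Subgroup G).index := S.not_dvd_index
    have h2 : (M.subgroupOf C).index ∣ (S : Subgroup G).index := by
      have h3 : M.relIndex C ∣ (S : Subgroup G).relIndex C := relIndex_dvd_of_le_left C hSM
      have hSC : (S : Subgroup G) ≤ C := fun x hx => (hCm x).2 (hcS x hx)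
      exact h3.trans (relIndex_dvd_index_of_le hSC)
    rw [← index_eq_card]
    rw [← Nat.not_even_iff_odd]
    intro he
    exact h1 ((even_iff_two_dvd.1 he).trans h2)
  have hPC : P ≤ C := fun x hx => (hCm x).2 (hPc x hx)
  have hPM : P ≤ M := by
    have h1 : ⁅P.subgroupOf C, P.subgroupOf C⁆ = P.subgroupOf C := by
      apply map_injective C.subtype_injective
      rw [map_commutator, subgroupOf_map_subtype, inf_eq_left.2 hPC, hP]
    have h2 : ((P.subgroupOf C).map (QuotientGroup.mk' (M.subgroupOf C))) = ⊥ := by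
      apply eq_bot_of_perfect_odd hodd
      rw [← map_commutator, h1]
    intro x hx
    have h3 : QuotientGroup.mk' (M.subgroupOf C) ⟨x, hPC hx⟩ = 1 := by
      have h4 : QuotientGroup.mk' (M.subgroupOf C) ⟨x, hPC hx⟩ ∈
          ((P.subgroupOf C).map (QuotientGroup.mk' (M.subgroupOf C))) := ⟨_, mem_subgroupOf.2 hx, rfl⟩
      rw [h2] at h4
      exact mem_bot.1 h4
    exact mem_subgroupOf.1 ((QuotientGroup.eq_one_iff _).1 h3)
  intro c hc
  by_cases hcP : c ∈ P
  · exact hPM hcP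
  have h1 : c * c ∈ M := hPM (hidx c c ((hCm c).1 hc) ((hCm c).1 hc) hcP hcP)
  have h2 : QuotientGroup.mk' (M.subgroupOf C) ⟨c, hc⟩ ^ 2 = 1 := by
    rw [← map_pow]
    refine (QuotientGroup.eq_one_iff _).2 (mem_subgroupOf.2 ?_)
    show c ^ 2 ∈ M
    rw [pow_two]; exact h1
  have h3 : QuotientGroup.mk' (M.subgroupOf C) ⟨c, hc⟩ = 1 := by
    have h4 : orderOf (QuotientGroup.mk' (M.subgroupOf C) ⟨c, hc⟩) ∣ 2 := orderOf_dvd_of_pow_eq_one h2
    have h5 : orderOf (QuotientGroup.mk' (M.subgroupOf C) ⟨c, hc⟩) ∣ Nat.card (C ⧸ M.subgroupOf C) := orderOf_dvd_natCard _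
    rcases (Nat.dvd_prime Nat.prime_two).1 h4 with h6 | h6
    · exact orderOf_eq_one_iff.1 h6
    · exfalso
      rw [h6] at h5
      exact (Nat.not_even_iff_odd.2 hodd) (even_iff_two_dvd.2 h5)
  exact mem_subgroupOf.1 ((QuotientGroup.eq_one_iff _).1 h3)

/-- **The condition `Phi` from a sheet.** -/
theorem phi_of_cor [Finite G] {z : G} {P R : Subgroup G} (hs : Cor z P R)
    (hidx : ∀ x y : G, x * z = z * x → y * z = z * y → x ∉ P → y ∉ P → x * y ∈ P)
    (S : Sylow 2 G) : Phi (S : Subgroup G) := by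
  have : Fact (Nat.Prime 2) := ⟨Nat.prime_two⟩
  obtain ⟨S₀, hzS, hcS, hZ⟩ := hs.syl
  refine phi_all (S₀ := S₀) ?_ S
  obtain ⟨D, hD⟩ : ∃ D : Subgroup G, D = centralizer (R : Set G) := ⟨_, rfl⟩
  have hDm : ∀ x : G, x ∈ D ↔ ∀ r ∈ R, x * r = r * x := fun x => by
    rw [hD, mem_centralizer_iff]
    exact ⟨fun h r hr => (h r hr).symm, fun h r hr => (h r hr).symm⟩
  have hDz : ∀ x ∈ D, x * z = z * x := fun x hx => (hDm x).1 hx z hs.zR
  have hinv : ∀ {c : G}, c * z = z * c → c⁻¹ * z = z * c⁻¹ := by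
    intro c hc
    have := congrArg (fun t => c⁻¹ * t * c⁻¹) hc
    simp only [mul_assoc, inv_mul_cancel_left, mul_inv_cancel, mul_one] at this
    exact this.symm
  have hmul : ∀ {a b : G}, a * z = z * a → b * z = z * b → (a * b) * z = z * (a * b) := by
    intro a b ha hb
    rw [mul_assoc, hb, ← mul_assoc, ha, mul_assoc]
  -- `P` is normal in `C(z)`
  have hPn : ∀ c, c * z = z * c → ∀ x ∈ P, c * x * c⁻¹ ∈ P := by
    intro c hc x hx
    by_cases hcP : c ∈ P
    · exact mul_mem (mul_mem hcP hx) (inv_mem hcP)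
    · refine hidx (c * x) c⁻¹ (hmul hc (hs.cen x hx)) (hinv hc) (fun h => hcP ?_) (fun h => hcP ?_)
      · have := mul_mem h (inv_mem hx)
        rwa [mul_inv_cancel_right] at this
      · exact inv_mem_iff.1 h
  -- `R` is normal in `C(z)`
  have hRn : ∀ c, c * z = z * c → ∀ r ∈ R, c * r * c⁻¹ ∈ R := by
    intro c hc r hr
    have h1 : R.map (MulAut.conj c).toMonoidHom ≤ R := by
      refine hs.Rmax _ ?_ (hs.R2.map _) ?_
      · rintro _ ⟨x, hx, rfl⟩
        exact hPn c hc x (hs.RP hx)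
      · rintro x hx _ ⟨b, hb, rfl⟩
        refine ⟨c⁻¹ * x * c * b * (c⁻¹ * x * c)⁻¹, ?_, ?_⟩
        · refine hs.Rn _ ?_ b hb
          have := hPn c⁻¹ (hinv hc) x hx
          rwa [inv_inv] at this
        · show c * (c⁻¹ * x * c * b * (c⁻¹ * x * c)⁻¹) * c⁻¹ = x * (c * b * c⁻¹) * x⁻¹
          group
    exact h1 ⟨r, hr, rfl⟩
  have hDn : ∀ c, c * z = z * c → ∀ d ∈ D, c * d * c⁻¹ ∈ D := by
    intro c hc d hd
    rw [hDm]
    intro r hr
    have h1 : c⁻¹ * r * c ∈ R := by
      have := hRn c⁻¹ (hinv hc) r hr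
      rwa [inv_inv] at this
    have h2 := (hDm d).1 hd _ h1
    calc c * d * c⁻¹ * r = c * (d * (c⁻¹ * r * c)) * c⁻¹ := by group
      _ = c * (c⁻¹ * r * c * d) * c⁻¹ := by rw [h2]
      _ = r * (c * d * c⁻¹) := by group
  have hD2 : IsPGroup 2 D := by
    rintro ⟨x, hx⟩
    have h1 : x * x ∈ R := by
      by_cases hxP : x ∈ P
      · have h2 := hs.cR x hxP ((hDm x).1 hx)
        exact mul_mem h2 h2
      · refine hs.cR _ (hidx x x (hDz x hx) (hDz x hx) hxP hxP) fun r hr => ?_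
        have h2 := (hDm x).1 hx r hr
        rw [mul_assoc, h2, ← mul_assoc, h2, mul_assoc]
    obtain ⟨k, hk⟩ := hs.R2 ⟨x * x, h1⟩
    refine ⟨k + 1, Subtype.ext ?_⟩
    have h3 : (x * x) ^ 2 ^ k = 1 := congrArg Subtype.val hk
    show x ^ 2 ^ (k + 1) = 1
    rw [pow_succ, mul_comm, pow_mul, pow_two]
    exact h3
  have hDR : D ≤ normalizer (R : Set G) := by
    rw [hD]
    exact centralizer_le_normalizer (s := (R : Set G))
  refine phi_of_cent (V := D ⊔ R) hs.z1 hzS hcS (fun y hy h1 _ => hZ y hy h1) hs.zz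
    (hD2.to_sup_of_normal_right' hs.R2 hDR) ?_ ?_ ?_
  · intro c hc v hv
    have h1 : (D ⊔ R).map (MulAut.conj c).toMonoidHom ≤ D ⊔ R := by
      rw [Subgroup.map_sup]
      refine sup_le_sup ?_ ?_
      · rintro _ ⟨x, hx, rfl⟩
        exact hDn c hc x hx
      · rintro _ ⟨x, hx, rfl⟩
        exact hRn c hc x hx
    exact h1 ⟨v, hv, rfl⟩
  · intro c hc
    exact mem_sup_left ((hDm c).2 fun r hr => hc r (mem_sup_right hr))
  · exact fun M h1 h2 h3 => cent_le_of_perfect hcS hs.perf hs.cen hidx M h1 h2 h3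

/-- **The 2-fusion system of a group with a sheet is simple.** -/
theorem isSimple_of_cor [Finite G] (hc : Cfsg.Agent.ClosedTwo.ClosedRow G) {z : G} {P R : Subgroup G}
    (hs : Cor z P R)
    (hidx : ∀ x y : G, x * z = z * x → y * z = z * y → x ∉ P → y ∉ P → x * y ∈ P)
    (S : Sylow 2 G) : (groupFusionSystem (S : Subgroup G)).IsSimple 2 := by
  have : Fact (Nat.Prime 2) := ⟨Nat.prime_two⟩
  refine isSimple_of_phi hc S ?_ (phi_of_cor hs hidx S)
  intro h
  obtain ⟨S₀, hzS, -, -⟩ := hs.syl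
  have h3 : Nat.card (S₀ : Subgroup G) = Nat.card (S : Subgroup G) := by
    rw [S₀.card_eq_multiplicity, S.card_eq_multiplicity]
  rw [h, card_bot] at h3
  have h4 := card_eq_one.1 h3
  have h5 : z ∈ (S₀ : Subgroup G) := hzS
  rw [h4] at h5
  exact hs.z1 (mem_bot.1 h5)

/-- `Phi` is invariant under isomorphisms. -/
theorem Phi.map {X : Type*} [Group X] (e : G ≃* X) {S : Subgroup G} (h : Phi S) : Phi (S.map e.toMonoidHom) := by
  obtain ⟨V, h1, h2, h3, h4⟩ := h
  have hm : ∀ (A : Subgroup G) (x : G), e x ∈ A.map e.toMonoidHom ↔ x ∈ A := fun A x =>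
    mem_map_iff_mem (f := e.toMonoidHom) e.injective
  have hn : ∀ (A : Subgroup G) (x : G), e x ∈ normalizer ((A.map e.toMonoidHom : Subgroup X) : Set X) ↔
      x ∈ normalizer (A : Set G) := by
    intro A x
    rw [mem_normalizer_iff, mem_normalizer_iff]
    constructor
    · intro hx y
      have := hx (e y)
      rw [← map_inv, ← map_mul, ← map_mul, hm, hm] at this
      exact this
    · intro hx y
      obtain ⟨y, rfl⟩ := e.surjective y
      rw [← map_inv, ← map_mul, ← map_mul, hm, hm]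
      exact hx y
  refine ⟨V.map e.toMonoidHom, Subgroup.map_mono h1, ?_, ?_, ?_⟩
  · rintro _ ⟨x, hx, rfl⟩
    exact (hn V x).2 (h2 hx)
  · intro y hy
    obtain ⟨y, rfl⟩ := e.surjective y
    refine (hm V y).2 (h3 ?_)
    rw [mem_centralizer_iff] at hy ⊢
    intro v hv
    have := hy (e v) ⟨v, hv, rfl⟩
    rw [← map_mul, ← map_mul] at this
    exact e.injective this
  · intro y hy
    obtain ⟨y, rfl⟩ := e.surjective y
    have h5 := h4 ((hn S y).1 hy)
    have h6 : closure {x | ∃ n ∈ normalizer (V : Set G), ∃ s ∈ S, x = n * s * n⁻¹} ≤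
        (closure {x | ∃ n ∈ normalizer ((V.map e.toMonoidHom : Subgroup X) : Set X), ∃ s ∈ S.map e.toMonoidHom,
          x = n * s * n⁻¹}).comap e.toMonoidHom := by
      rw [closure_le]
      rintro x ⟨n, hn', s, hs, rfl⟩
      refine subset_closure ⟨e n, (hn V n).2 hn', e s, ⟨s, hs, rfl⟩, ?_⟩
      show e (n * s * n⁻¹) = _
      rw [map_mul, map_mul, map_inv]
    exact h6 h5

/-- transport of `Phi` along an isomorphism -/
theorem phi_of_equiv {X : Type*} [Group X] [Finite X] [Finite G] (e : X ≃* G)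
    (h : ∀ S : Sylow 2 G, Phi (S : Subgroup G)) (S : Sylow 2 X) : Phi (S : Subgroup X) := by
  have : Fact (Nat.Prime 2) := ⟨Nat.prime_two⟩
  obtain ⟨T, hT⟩ := Cfsg.Agent.ClosedTwo.exists_sylow_map e S
  have h4 := Phi.map e.symm (h T)
  rw [hT] at h4
  rwa [Cfsg.Agent.ClosedTwo.map_symm_map] at h4

/-- transport along an isomorphism -/
theorem isSimple_of_equiv {X : Type*} [Group X] [Finite X] [Finite G] (e : X ≃* G)
    (hc : Cfsg.Agent.ClosedTwo.ClosedRow X) (h : ∀ S : Sylow 2 G, Phi (S : Subgroup G)) (h2 : 2 ∣ Nat.card X)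
    (S : Sylow 2 X) : (groupFusionSystem (S : Subgroup X)).IsSimple 2 := by
  have : Fact (Nat.Prime 2) := ⟨Nat.prime_two⟩
  exact isSimple_of_phi hc S (S.ne_bot_of_dvd_card h2) (phi_of_equiv e h S)

/-- **Transport of the sheet theorem.** -/
theorem isSimple_of_cor_equiv {X : Type*} [Group X] [Finite X] [Finite G] (e : X ≃* G)
    (hc : Cfsg.Agent.ClosedTwo.ClosedRow X) {z : G} {P R : Subgroup G} (hs : Cor z P R)
    (hidx : ∀ x y : G, x * z = z * x → y * z = z * y → x ∉ P → y ∉ P → x * y ∈ P)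
    (S : Sylow 2 X) : (groupFusionSystem (S : Subgroup X)).IsSimple 2 := by
  refine isSimple_of_equiv e hc (phi_of_cor hs hidx) ?_ S
  rw [Nat.card_congr e.toEquiv]
  have h1 : orderOf z = 2 := orderOf_eq_prime (by rw [pow_two]; exact hs.zz) hs.z1
  rw [← h1]
  exact orderOf_dvd_natCard z

end Cfsg.Agent.H796.PhiCor
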