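import Cfsg.Agent.H355.TwoPoint
import Cfsg.Agent.ClassicalGeometry.PSL2Basic

/-!
# Normal subgroups `SL₂(q)` in groups of fixity two, part I (helper796)

* `eq_bot_of_ti` : odd order subgroups `D` of `G`, `G / Z(G)` simple, with `N(D) = D × ⟨z⟩`, `D × ⟨z⟩` TI, are trivial
* `card_sq_le` : an involution `t` acting on `L` with `|C_L(t)| ≤ 2` gives `|L|² ≤ 4 |{commuting pairs of L}|`
* `comm_le` : at most `|G| (q² + 1)` commuting pairs in `SL₂(q)`
-/

set_option autoImplicit false

namespace Cfsg.Agent.H796.SlBig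

open Matrix

/-- a map with fibres of size at most two -/
theorem card_le_two_mul {G α : Type*} [Group G] [Finite G] [Finite α] (f : G → α) (z : G)
    (h : ∀ g k, f g = f k → g = k ∨ g = k * z) : Nat.card G ≤ 2 * Nat.card α := by
  classical
  have hne : Nonempty G := ⟨1⟩
  let s : α → G := Function.invFun f
  have hs : ∀ g, f (s (f g)) = f g := fun g => Function.invFun_eq ⟨g, rfl⟩
  let φ : G → α × Bool := fun g => (f g, decide (g = s (f g)))
  have hφ : Function.Injective φ := by
    intro g k hgk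
    have h1 : f g = f k := congrArg Prod.fst hgk
    have h2 : decide (g = s (f g)) = decide (k = s (f k)) := congrArg Prod.snd hgk
    rw [decide_eq_decide] at h2
    by_cases hg : g = s (f g)
    · have hk := h2.1 hg
      rw [hg, hk, h1]
    · have hk : ¬ k = s (f k) := fun hk => hg (h2.2 hk)
      rcases h g (s (f g)) (hs g).symm with h3 | h3
      · exact absurd h3 hg
      rcases h k (s (f k)) (hs k).symm with h4 | h4
      · exact absurd h4 hk
      rw [h3, h4, h1]
  have := Nat.card_le_card_of_injective φ hφ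
  rw [Nat.card_prod, Nat.card_eq_fintype_card (α := Bool), Fintype.card_bool] at this
  omega

theorem odd_card_of {G : Type*} [Group G] [Finite G] (D : Subgroup G) (hodd : ∀ d ∈ D, Odd (orderOf d)) :
    Odd (Nat.card D) := by
  have : Fact (Nat.Prime 2) := ⟨Nat.prime_two⟩
  rw [← Nat.not_even_iff_odd, even_iff_two_dvd]
  intro h2
  obtain ⟨d, hd⟩ := exists_prime_orderOf_dvd_card' (G := D) 2 h2
  have h3 := hodd d d.2
  rw [Subgroup.orderOf_coe, hd] at h3
  exact absurd h3 (by decide)

/-- The subgroup `D` is trivial. -/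
theorem eq_bot_of_ti {G : Type*} [Group G] [Finite G] (z : G) (hz : orderOf z = 2)
    (hZ : ∀ g : G, g ∈ Subgroup.center G ↔ g = 1 ∨ g = z) [IsSimpleGroup (G ⧸ Subgroup.center G)]
    (h4 : 4 ∣ Nat.card G) (D : Subgroup G) (hodd : ∀ d ∈ D, Odd (orderOf d))
    (hti : ∀ g d : G, d ∈ D → d ≠ 1 → g * d * g⁻¹ ∈ D → g ∈ D ∨ z * g ∈ D) : D = ⊥ := by
  by_contra hD
  have hzz : z ^ 2 = 1 := by rw [← hz]; exact pow_orderOf_eq_one z
  have hz1 : z ≠ 1 := by
    rintro rfl
    rw [orderOf_one] at hz
    omega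
  have hzc : ∀ g, z * g = g * z := fun g => ((Subgroup.mem_center_iff.1 ((hZ z).2 (Or.inr rfl))) g).symm
  have hoc := odd_card_of D hodd
  have hmem : ∀ g : G, (QuotientGroup.mk' (Subgroup.center G)) g ∈ D.map (QuotientGroup.mk' (Subgroup.center G)) →
      g ∈ D ∨ z * g ∈ D := by
    rintro g ⟨d, hd, hdg⟩
    have h1 : d⁻¹ * g ∈ Subgroup.center G := QuotientGroup.eq.1 hdg
    rcases (hZ _).1 h1 with h2 | h2
    · left
      rw [inv_mul_eq_one.1 h2] at hd
      exact hd
    · right
      have h3 : g = d * z := by rw [← h2, mul_inv_cancel_left]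
      rw [h3, ← hzc, ← mul_assoc, ← pow_two, hzz, one_mul]
      exact hd
  apply H355.TwoPoint.not_frobenius (D.map (QuotientGroup.mk' (Subgroup.center G)))
  refine ⟨?_, ?_, ?_⟩
  · intro h1
    apply hD
    rw [eq_bot_iff]
    intro d hd
    have h2 : (QuotientGroup.mk' (Subgroup.center G)) d ∈ D.map (QuotientGroup.mk' (Subgroup.center G)) :=
      Subgroup.mem_map_of_mem _ hd
    rw [h1, Subgroup.mem_bot] at h2
    have h3 : d ∈ Subgroup.center G := (QuotientGroup.eq_one_iff d).1 h2
    rcases (hZ d).1 h3 with h4 | h4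
    · exact Subgroup.mem_bot.2 h4
    · have h5 := hodd d hd
      rw [h4, hz] at h5
      exact absurd h5 (by decide)
  · intro h1
    have h2 : Nat.card (G ⧸ Subgroup.center G) ∣ Nat.card D := by
      have h3 := Subgroup.card_map_dvd D (QuotientGroup.mk' (Subgroup.center G))
      rw [h1, Subgroup.card_top] at h3
      exact h3
    have h3 : Odd (Nat.card (G ⧸ Subgroup.center G)) := hoc.of_dvd_nat h2
    have h5 : Nat.card (Subgroup.center G) ≤ 2 := by
      have h6 : (Subgroup.center G : Set G) ⊆ {1, z} := by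
        intro g hg
        exact (hZ g).1 hg
      have h7 := Set.ncard_le_ncard h6 (Set.toFinite _)
      have h8 : ({1, z} : Set G).ncard ≤ 2 := by
        have h9 := Set.ncard_insert_le (1 : G) {z}
        rwa [Set.ncard_singleton] at h9
      exact h7.trans h8
    have h6 := Subgroup.card_eq_card_quotient_mul_card_subgroup (Subgroup.center G)
    obtain ⟨a, ha⟩ := h3
    obtain ⟨b, hb⟩ := h4
    have h7 : 0 < Nat.card (Subgroup.center G) := Nat.card_pos
    rw [ha, hb] at h6
    generalize Nat.card (Subgroup.center G) = c at *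
    interval_cases c
    · omega
    · omega
  · intro g hg
    rw [eq_bot_iff]
    rintro x ⟨hx, hx'⟩
    obtain ⟨g, rfl⟩ := QuotientGroup.mk'_surjective _ g
    obtain ⟨y, hy, hyx⟩ := (Subgroup.mem_smul_pointwise_iff_exists _ _ _).1 hx'
    obtain ⟨d', hd', rfl⟩ := hy
    have hyx' : QuotientGroup.mk' (Subgroup.center G) (g * d' * g⁻¹) = x := by
      rw [← hyx]
      simp
    by_contra hx1
    rw [← hyx'] at hx
    have h1 : d' ≠ 1 := by
      rintro rfl
      apply hx1
      rw [Subgroup.mem_bot, ← hyx']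
      simp
    rcases hmem _ hx with h2 | h2
    · rcases hti g d' hd' h1 h2 with h3 | h3
      · exact hg (Subgroup.mem_map_of_mem _ h3)
      · apply hg
        have h4 := Subgroup.mem_map_of_mem (QuotientGroup.mk' (Subgroup.center G)) h3
        have h5 : (QuotientGroup.mk' (Subgroup.center G)) z = 1 := (QuotientGroup.eq_one_iff z).2 ((hZ z).2 (Or.inr rfl))
        rwa [map_mul, h5, one_mul] at h4
    · -- `z * (g d' g⁻¹)` has even order
      have h3 := hodd _ h2
      have h4 := hodd _ hd'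
      have h5 : (z * (g * d' * g⁻¹)) ^ (orderOf (z * (g * d' * g⁻¹)) * orderOf d') = 1 := by
        rw [pow_mul, pow_orderOf_eq_one, one_pow]
      rw [Commute.mul_pow (hzc _)] at h5
      have h6 : (g * d' * g⁻¹) ^ (orderOf (z * (g * d' * g⁻¹)) * orderOf d') = 1 := by
        rw [conj_pow, mul_comm (orderOf _), pow_mul, pow_orderOf_eq_one, one_pow]
        group
      rw [h6, mul_one] at h5
      have h7 := orderOf_dvd_of_pow_eq_one h5
      rw [hz] at h7
      have h8 : Odd (orderOf (z * (g * d' * g⁻¹)) * orderOf d') := h3.mul h4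
      exact absurd (even_iff_two_dvd.2 h7) (Nat.not_even_iff_odd.2 h8)

/-- An involution `t` with `|C_L(t)| ≤ 2`: many commuting pairs in `L`. -/
theorem card_sq_le {Y : Type*} [Group Y] [Finite Y] (L : Subgroup Y) [hL : L.Normal] {t z : Y} (ht : t * t = 1)
    (hz : z ∈ L) (hC : ∀ g ∈ L, g * t = t * g → g = 1 ∨ g = z) :
    Nat.card L ^ 2 ≤ 4 * Nat.card {p : L × L // Commute p.1 p.2} := by
  classical
  have htinv : t⁻¹ = t := (eq_inv_of_mul_eq_one_left ht).symm
  let A := {a : Y // ∃ g : L, a = g * t * (g : Y)⁻¹}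
  have hA2 : ∀ a : A, (a : Y) * a = 1 := by
    rintro ⟨a, g, rfl⟩
    show (g : Y) * t * (g : Y)⁻¹ * (g * t * (g : Y)⁻¹) = 1
    calc (g : Y) * t * (g : Y)⁻¹ * (g * t * (g : Y)⁻¹) = g * (t * t) * (g : Y)⁻¹ := by group
      _ = 1 := by rw [ht]; group
  have hAL : ∀ a b : A, (a : Y) * b ∈ L := by
    rintro ⟨a, g, rfl⟩ ⟨b, k, rfl⟩
    show (g : Y) * t * (g : Y)⁻¹ * (k * t * (k : Y)⁻¹) ∈ L
    have h1 : (g : Y) * t * (g : Y)⁻¹ * (k * t * (k : Y)⁻¹) = g * (t * ((g : Y)⁻¹ * k) * t⁻¹) * (k : Y)⁻¹ := by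
      rw [htinv]; group
    rw [h1]
    exact mul_mem (mul_mem g.2 (hL.conj_mem _ (mul_mem (inv_mem g.2) k.2) t)) (inv_mem k.2)
  have step1 : Nat.card L ≤ 2 * Nat.card A := by
    refine card_le_two_mul (fun g : L => (⟨(g : Y) * t * (g : Y)⁻¹, g, rfl⟩ : A)) (⟨z, hz⟩ : L) ?_
    intro g k hgk
    have h1 : (g : Y) * t * (g : Y)⁻¹ = k * t * (k : Y)⁻¹ := congrArg Subtype.val hgk
    have h2 : ((k : Y)⁻¹ * g) * t = t * ((k : Y)⁻¹ * g) := by
      calc ((k : Y)⁻¹ * g) * t = (k : Y)⁻¹ * (g * t * (g : Y)⁻¹) * g := by group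
        _ = (k : Y)⁻¹ * (k * t * (k : Y)⁻¹) * g := by rw [h1]
        _ = _ := by group
    rcases hC _ (mul_mem (inv_mem k.2) g.2) h2 with h3 | h3
    · left
      exact Subtype.ext (inv_mul_eq_one.1 h3).symm
    · right
      apply Subtype.ext
      show (g : Y) = k * z
      rw [← h3, mul_inv_cancel_left]
  have step2 : Nat.card (A × A) ≤ Nat.card {p : L × L // Commute p.1 p.2} := by
    let P : L → A → Prop := fun w a => (a : Y) * w * a = (w : Y)⁻¹
    have hP : ∀ a b : A, P ⟨a * b, hAL a b⟩ a := by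
      intro a b
      show (a : Y) * (a * b) * a = ((a : Y) * b)⁻¹
      rw [← mul_assoc, hA2 a, one_mul, _root_.mul_inv_rev, ← eq_inv_of_mul_eq_one_left (hA2 a),
        ← eq_inv_of_mul_eq_one_left (hA2 b)]
    have hne : ∀ w : L, (∃ a, P w a) → ∃ a, P w a := fun w h => h
    have a00 : A := ⟨t, 1, by simp⟩
    let s : L → A := fun w => if h : ∃ a, P w a then h.choose else a00
    have hs : ∀ w : L, (∃ a, P w a) → P w (s w) := by
      intro w h
      simp only [s, dif_pos h]
      exact h.choose_spec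
    have hcomm : ∀ p : A × A, Commute (⟨p.1 * p.2, hAL p.1 p.2⟩ : L)
        ⟨p.1 * s ⟨p.1 * p.2, hAL p.1 p.2⟩, hAL _ _⟩ := by
      rintro ⟨a, b⟩
      have h1 := hP a b
      have h2 := hs _ ⟨a, h1⟩
      have key : ∀ (c : A) (w : Y), (a : Y) * w * a = w⁻¹ → (c : Y) * w * c = w⁻¹ → w * (a * c) = a * c * w := ?_
      · exact Subtype.ext (key _ _ h1 h2)
      intro c w h1' h2'
      -- `a w a = w⁻¹`, `c w c = w⁻¹`
      have e1 : (c : Y) * w = w⁻¹ * c := by
        calc (c : Y) * w = (c * w * c) * c := by rw [mul_assoc (c * w : Y), hA2 c, mul_one]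
          _ = _ := by rw [h2']
      have e2 : w * (a : Y) = a * w⁻¹ := by
        calc w * (a : Y) = a * a * (w * a) := by rw [hA2 a, one_mul]
          _ = a * (a * w * a) := by group
          _ = _ := by rw [h1']
      calc w * (a * (c : Y)) = (w * a) * c := by group
        _ = a * (w⁻¹ * c) := by rw [e2]; group
        _ = a * c * w := by rw [← e1]; group
    refine Nat.card_le_card_of_injective (fun p : A × A =>
      (⟨(⟨p.1 * p.2, hAL p.1 p.2⟩, ⟨p.1 * s ⟨p.1 * p.2, hAL p.1 p.2⟩, hAL _ _⟩), hcomm p⟩ :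
        {p : L × L // Commute p.1 p.2})) ?_
    rintro ⟨a, b⟩ ⟨a', b'⟩ h
    have h0 := congrArg Subtype.val h
    have h1 : (⟨a * b, hAL a b⟩ : L) = ⟨a' * b', hAL a' b'⟩ := congrArg Prod.fst h0
    have h2 : (⟨a * s ⟨a * b, hAL a b⟩, hAL _ _⟩ : L) = ⟨a' * s ⟨a' * b', hAL a' b'⟩, hAL _ _⟩ :=
      congrArg Prod.snd h0
    have h3 : (a : Y) * s ⟨a * b, hAL a b⟩ = a' * s ⟨a' * b', hAL a' b'⟩ := congrArg Subtype.val h2
    rw [h1] at h3
    have h4 : (a : Y) = a' := mul_right_cancel h3
    have h5 : (a : Y) * b = a' * b' := congrArg Subtype.val h1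
    rw [h4] at h5
    have h6 : (b : Y) = b' := mul_left_cancel h5
    rw [Prod.mk.injEq]
    exact ⟨Subtype.ext h4, Subtype.ext h6⟩
  rw [Nat.card_prod] at step2
  nlinarith

section sl

variable {F : Type*} [Field F] [Fintype F]

/-- scalar matrices -/
def Sc (w : SpecialLinearGroup (Fin 2) F) : Prop := w.1 0 1 = 0 ∧ w.1 1 0 = 0 ∧ w.1 0 0 = w.1 1 1

omit [Fintype F] in
theorem eq_of_sc {w : SpecialLinearGroup (Fin 2) F} (h : Sc w) : w = 1 ∨ w = -1 := by
  obtain ⟨h1, h2, h3⟩ := h
  have hdet := w.2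
  rw [det_fin_two, h1, h2, h3, mul_zero, sub_zero, mul_self_eq_one_iff] at hdet
  rcases hdet with h4 | h4
  · left
    apply Subtype.ext
    ext i j
    fin_cases i <;> fin_cases j <;> simp [h1, h2, h3, h4]
  · right
    apply Subtype.ext
    ext i j
    fin_cases i <;> fin_cases j <;> simp [h1, h2, h3, h4]

theorem card_comm_le {w : SpecialLinearGroup (Fin 2) F} (h : ¬ Sc w) :
    Nat.card {x : SpecialLinearGroup (Fin 2) F // Commute w x} ≤ Fintype.card F ^ 2 - 1 := by
  classical
  -- a cyclic vector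
  obtain ⟨v, hv⟩ : ∃ v : Fin 2 → F, v 0 * (w.1.mulVec v) 1 - v 1 * (w.1.mulVec v) 0 ≠ 0 := by
    by_contra hcon
    push Not at hcon
    apply h
    have h1 := hcon ![1, 0]
    have h2 := hcon ![0, 1]
    have h3 := hcon ![1, 1]
    simp [mulVec, dotProduct, Fin.sum_univ_two] at h1 h2 h3
    refine ⟨h2, h1, ?_⟩
    rw [h1, h2] at h3
    linear_combination -h3
  have hv0 : v ≠ 0 := by
    rintro rfl
    apply hv
    simp
  have hinj : Function.Injective (fun x : {x : SpecialLinearGroup (Fin 2) F // Commute w x} =>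
      (⟨x.1.1.mulVec v, by
        intro h0
        apply hv0
        have h1 := congrArg (x.1.1.adjugate).mulVec h0
        rw [mulVec_mulVec, mulVec_zero, adjugate_mul, x.1.2, one_smul, one_mulVec] at h1
        exact h1⟩ : {u : Fin 2 → F // u ≠ 0})) := by
    rintro ⟨x, hx⟩ ⟨y, hy⟩ hxy
    have h1 : x.1.mulVec v = y.1.mulVec v := congrArg Subtype.val hxy
    have h2 : x.1.mulVec (w.1.mulVec v) = y.1.mulVec (w.1.mulVec v) := by
      have hx' : x.1 * w.1 = w.1 * x.1 := by
        have := congrArg Subtype.val hx.eq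
        exact this.symm
      have hy' : y.1 * w.1 = w.1 * y.1 := by
        have := congrArg Subtype.val hy.eq
        exact this.symm
      rw [mulVec_mulVec, mulVec_mulVec, hx', hy', ← mulVec_mulVec, ← mulVec_mulVec, h1]
    apply Subtype.ext
    apply Subtype.ext
    show x.1 = y.1
    generalize w.1.mulVec v = u at *
    have key : ∀ i : Fin 2, ∀ j : Fin 2, x.1 i j = y.1 i j := by
      intro i j
      have e1 := congrFun h1 i
      have e2 := congrFun h2 i
      simp only [mulVec, dotProduct, Fin.sum_univ_two] at e1 e2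
      have h3 : (x.1 i 0 - y.1 i 0) * (v 0 * u 1 - v 1 * u 0) = 0 := by linear_combination u 1 * e1 - v 1 * e2
      have h4 : (x.1 i 1 - y.1 i 1) * (v 0 * u 1 - v 1 * u 0) = 0 := by linear_combination v 0 * e2 - u 0 * e1
      have h5 := (mul_eq_zero.1 h3).resolve_right hv
      have h6 := (mul_eq_zero.1 h4).resolve_right hv
      fin_cases j
      · exact sub_eq_zero.1 h5
      · exact sub_eq_zero.1 h6
    ext i j
    exact key i j
  refine (Nat.card_le_card_of_injective _ hinj).trans ?_
  rw [Nat.card_eq_fintype_card, Fintype.card_subtype_compl, Fintype.card_subtype_eq]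
  simp

/-- commuting pairs in `SL₂(q)` -/
theorem comm_le : Nat.card {p : SpecialLinearGroup (Fin 2) F × SpecialLinearGroup (Fin 2) F // Commute p.1 p.2} ≤
    Nat.card (SpecialLinearGroup (Fin 2) F) * (Fintype.card F ^ 2 + 1) := by
  classical
  have h0 : 1 ≤ Fintype.card F := Fintype.card_pos
  rw [Nat.card_congr (Equiv.subtypeProdEquivSigmaSubtype
    (fun x y : SpecialLinearGroup (Fin 2) F => Commute x y)), Nat.card_sigma]
  calc ∑ w : SpecialLinearGroup (Fin 2) F, Nat.card {x : SpecialLinearGroup (Fin 2) F // Commute w x}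
      ≤ ∑ w : SpecialLinearGroup (Fin 2) F,
        ((if w = 1 ∨ w = -1 then Nat.card (SpecialLinearGroup (Fin 2) F) else 0) + (Fintype.card F ^ 2 - 1)) := by
        apply Finset.sum_le_sum
        intro w _
        by_cases hw : w = 1 ∨ w = -1
        · rw [if_pos hw]
          refine le_trans ?_ (Nat.le_add_right _ _)
          exact Nat.card_le_card_of_injective _ Subtype.val_injective
        · rw [if_neg hw, zero_add]
          exact card_comm_le fun h => hw (eq_of_sc h)
    _ = (Finset.univ.filter fun w : SpecialLinearGroup (Fin 2) F => w = 1 ∨ w = -1).card *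
          Nat.card (SpecialLinearGroup (Fin 2) F) + Nat.card (SpecialLinearGroup (Fin 2) F) * (Fintype.card F ^ 2 - 1) := by
        rw [Finset.sum_add_distrib, ← Finset.sum_filter, Finset.sum_const, Finset.sum_const, smul_eq_mul, smul_eq_mul,
          Finset.card_univ, Nat.card_eq_fintype_card]
    _ ≤ 2 * Nat.card (SpecialLinearGroup (Fin 2) F) +
          Nat.card (SpecialLinearGroup (Fin 2) F) * (Fintype.card F ^ 2 - 1) := by
        apply Nat.add_le_add_right
        apply Nat.mul_le_mul_right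
        have h1 : (Finset.univ.filter fun w : SpecialLinearGroup (Fin 2) F => w = 1 ∨ w = -1) ⊆ {1, -1} := by
          intro w hw
          simpa using hw
        exact (Finset.card_le_card h1).trans Finset.card_le_two
    _ = Nat.card (SpecialLinearGroup (Fin 2) F) * (Fintype.card F ^ 2 + 1) := by
        have h1 : 1 ≤ Fintype.card F ^ 2 := Nat.one_le_pow _ _ h0
        obtain ⟨k, hk⟩ := Nat.exists_eq_add_of_le h1
        rw [hk, Nat.add_sub_cancel_left]
        ring

end sl

end Cfsg.Agent.H796.SlBig
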