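import Cfsg.Agent.H796.SlCase

/-!
# Groups of fixity two with a normal subgroup `SL₂(3)` (helper796, for S3392)
-/

set_option autoImplicit false
set_option linter.unusedSectionVars false

open Cfsg

namespace Cfsg.Agent.H796.SlCase

open MulAction SlBig SlThree

namespace Cfg

variable {Y : Type*} [Group Y] [Finite Y] {D K : Subgroup Y} {t z : Y} (c : Cfg D K t z)
  {L : Subgroup Y} [hL : L.Normal] (hLK : L ≤ K) (e : L ≃* M)

include c hLK

theorem ez : ∃ hz : z ∈ L, e ⟨z, hz⟩ = -1 := by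
  have h1 : ((e.symm (-1) : L) : Y) = z := by
    rcases c.sq_eq (hLK (e.symm (-1)).2) (by
      have := congrArg (Subtype.val) (map_mul e.symm (-1) (-1))
      have h12 := f12.2
      rw [pow_two] at h12
      rw [h12, map_one] at this
      exact this.symm) with h | h
    · exfalso
      apply f12.1
      have h2 : e.symm (-1) = 1 := Subtype.ext h
      rw [← e.apply_symm_apply (-1), h2, map_one]
    · exact h
  refine ⟨by rw [← h1]; exact (e.symm (-1)).2, ?_⟩
  have h2 : (⟨z, by rw [← h1]; exact (e.symm (-1)).2⟩ : L) = e.symm (-1) := Subtype.ext h1.symm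
  rw [h2, e.apply_symm_apply]

/-- conjugation by `t` -/
def τ (_c : Cfg D K t z) (L : Subgroup Y) [hL : L.Normal] (g : L) : L := ⟨t * g * t⁻¹, hL.conj_mem _ g.2 t⟩

omit hLK in
theorem τ_mul (g k : L) : c.τ L (g * k) = c.τ L g * c.τ L k := Subtype.ext (by
  show t * (g * k) * t⁻¹ = t * g * t⁻¹ * (t * k * t⁻¹)
  group)

omit hLK in
theorem τ_inv (g : L) : c.τ L g⁻¹ = (c.τ L g)⁻¹ := Subtype.ext (by
  show t * (g : Y)⁻¹ * t⁻¹ = (t * g * t⁻¹)⁻¹
  group)

omit hLK in
theorem τ_pow (g : L) (n : ℕ) : c.τ L (g ^ n) = (c.τ L g) ^ n := Subtype.ext (by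
  show t * (g : Y) ^ n * t⁻¹ = (t * g * t⁻¹) ^ n
  rw [conj_pow])

omit hLK in
theorem ττ (g : L) : c.τ L (c.τ L g) = g := Subtype.ext (by
  show t * (t * g * t⁻¹) * t⁻¹ = g
  have h1 : t * (t * (g : Y) * t⁻¹) * t⁻¹ = (t * t) * g * (t * t)⁻¹ := by group
  rw [h1, c.tt]
  group)

/-- a `τ`-fixed element of order four is impossible -/
theorem no_fix (k : L) (hk : e k ^ 2 = -1) : c.τ L k ≠ k := by
  intro h
  obtain ⟨hz, hez⟩ := c.ez hLK e
  have h1 : t * (k : Y) * t⁻¹ = k := congrArg Subtype.val h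
  have h2 : (k : Y) * t = t * k := by rw [mul_inv_eq_iff_eq_mul] at h1; exact h1.symm
  have h4 : k ^ 4 = 1 := by
    apply e.injective
    rw [map_pow, map_one, show (4 : ℕ) = 2 * 2 from rfl, pow_mul, hk, f12.2]
  rcases c.four (hLK k.2) (congrArg Subtype.val h4) h2 with h3 | h3
  · have h5 : k = 1 := Subtype.ext h3
    rw [h5, map_one, one_pow] at hk
    exact f12.1 hk.symm
  · have h5 : k = ⟨z, hz⟩ := Subtype.ext h3
    rw [h5, hez, f12.2] at hk
    exact f12.1 hk.symm

/-- the involution `t` acts non-trivially on `L / O₂(L)` -/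
theorem exists_g : ∃ g : L, (e (c.τ L g * g⁻¹)) ^ 4 ≠ 1 := by
  by_contra hcon
  push Not at hcon
  obtain ⟨hz, hez⟩ := c.ez hLK e
  -- `τ` fixes `z`
  have hτz : c.τ L ⟨z, hz⟩ = ⟨z, hz⟩ := Subtype.ext (by
    show t * z * t⁻¹ = z
    rw [← c.hzc, mul_inv_cancel_right])
  have hsq : ∀ k : L, e k ^ 2 = -1 → e (c.τ L k) ^ 2 = -1 := by
    intro k hk
    rw [← hez] at hk ⊢
    rw [← map_pow] at hk ⊢
    have := e.injective hk
    rw [← c.τ_pow, this, hτz]
  -- an inverted element of order four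
  obtain ⟨k, hk, hkt⟩ : ∃ k : L, e k ^ 2 = -1 ∧ c.τ L k = k⁻¹ := by
    have hi : e (e.symm i0) ^ 2 = -1 := by rw [e.apply_symm_apply]; exact f7.1
    generalize e.symm i0 = i at hi
    by_cases h1 : c.τ L i = i⁻¹
    · exact ⟨i, hi, h1⟩
    · have h2 := c.no_fix hLK e i hi
      have h3 := f4 (e i) (e (c.τ L i)) hi (hsq i hi) (fun h => h2 (e.injective h))
        (fun h => h1 (e.injective (by rw [h, map_inv])))
      refine ⟨i * c.τ L i, by rw [map_mul]; exact h3.2, ?_⟩
      rw [c.τ_mul, c.ττ]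
      apply e.injective
      rw [map_mul, map_inv, map_mul]
      exact h3.1
  obtain ⟨g', hg'⟩ := f8
  have hg : e (e.symm g') ^ 4 ≠ 1 := by rw [e.apply_symm_apply]; exact hg'
  generalize e.symm g' = g at hg
  have hq := hcon g
  have hj := f4' (e k) (e g) hk hg
  -- `j = g k g⁻¹` is inverted by `τ`
  have hj2 : e (g * k * g⁻¹) ^ 2 = -1 := by
    rw [← hez, ← map_pow, conj_pow]
    rw [← hez, ← map_pow] at hk
    rw [e.injective hk]
    congr 1
    apply Subtype.ext
    show (g : Y) * z * (g : Y)⁻¹ = z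
    rw [← c.hzc, mul_inv_cancel_right]
  have hjt : c.τ L (g * k * g⁻¹) = (c.τ L g * g⁻¹) * (g * k * g⁻¹)⁻¹ * (c.τ L g * g⁻¹)⁻¹ := by
    rw [c.τ_mul, c.τ_mul, c.τ_inv, hkt]
    group
  have hjt' : c.τ L (g * k * g⁻¹) = (g * k * g⁻¹)⁻¹ := by
    rcases f9 (e (g * k * g⁻¹)) (e (c.τ L g * g⁻¹)) hj2 hq with h | h
    · exfalso
      apply c.no_fix hLK e _ hj2
      rw [hjt]
      apply e.injective
      rw [map_mul, map_mul, map_inv, map_inv]
      exact h
    · rw [hjt]
      apply e.injective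
      rw [map_mul, map_mul, map_inv, map_inv]
      exact h
  have hne1 : e (g * k * g⁻¹) ≠ e k := by rw [map_mul, map_mul, map_inv]; exact hj.1
  have hne2 : e (g * k * g⁻¹) ≠ (e k)⁻¹ := by rw [map_mul, map_mul, map_inv]; exact hj.2
  generalize g * k * g⁻¹ = j at *
  have h4 := f4 (e k) (e j) hk hj2 hne1 hne2
  apply c.no_fix hLK e (k * j) (by rw [map_mul]; exact h4.2)
  rw [c.τ_mul, hkt, hjt']
  apply e.injective
  rw [map_mul, map_inv, map_inv, map_mul, ← _root_.mul_inv_rev, h4.1, inv_inv]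

include e in
/-- an element of order three inverted by `t` -/
theorem exists_y : ∃ y : Y, y ∈ K ∧ orderOf y = 3 ∧ t * y * t⁻¹ = y⁻¹ := by
  obtain ⟨g, hg⟩ := c.exists_g hLK e
  set w : L := c.τ L g * g⁻¹ with hw
  have hwt : c.τ L w = w⁻¹ := by
    rw [hw, c.τ_mul, c.ττ, c.τ_inv, mul_inv_rev, inv_inv]
  have hy1 : w ^ 4 ≠ 1 := fun h => hg (by rw [← map_pow, h, map_one])
  have hy3 : (w ^ 4) ^ 3 = 1 := by
    rw [← pow_mul]
    apply e.injective
    rw [map_pow, map_one]
    exact f2 _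
  refine ⟨(w : Y) ^ 4, hLK (pow_mem w.2 4), ?_, ?_⟩
  · have : Fact (Nat.Prime 3) := ⟨Nat.prime_three⟩
    apply orderOf_eq_prime
    · exact congrArg Subtype.val hy3
    · intro h
      exact hy1 (Subtype.ext h)
  · have h1 := congrArg Subtype.val (c.τ_pow w 4)
    rw [hwt] at h1
    have h2 : t * (w : Y) ^ 4 * t⁻¹ = ((w : Y)⁻¹) ^ 4 := h1
    rw [h2, inv_pow]

omit hLK in
/-- the dihedral group `⟨y, t⟩` -/
theorem exists_H {y : Y} (hyK : y ∈ K) (hy : orderOf y = 3) (hyt : t * y * t⁻¹ = y⁻¹) :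
    ∃ H : Subgroup Y, t ∈ H ∧ Nat.card H = 6 ∧ ∀ g ∈ H, g * t = t * g → g = 1 ∨ g = t := by
  classical
  have hW : ∀ w ∈ Subgroup.zpowers y, t * w * t⁻¹ = w⁻¹ := by
    intro w hw
    obtain ⟨n, rfl⟩ := Subgroup.mem_zpowers_iff.1 hw
    rw [← conj_zpow, hyt, inv_zpow]
  have hWK : ∀ w ∈ Subgroup.zpowers y, w ∈ K := fun w hw => (Subgroup.zpowers_le.2 hyK) hw
  have hcom : ∀ w ∈ Subgroup.zpowers y, t * w = w⁻¹ * t := by
    intro w hw
    rw [← hW w hw, inv_mul_cancel_right]
  let H : Subgroup Y :=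
    { carrier := {h | h ∈ Subgroup.zpowers y ∨ t * h ∈ Subgroup.zpowers y}
      one_mem' := Or.inl (one_mem _)
      mul_mem' := by
        rintro a b (ha | ha) (hb | hb)
        · exact Or.inl (mul_mem ha hb)
        · right
          show t * (a * b) ∈ _
          rw [← mul_assoc, hcom a ha, mul_assoc]
          exact mul_mem (inv_mem ha) hb
        · right
          show t * (a * b) ∈ _
          rw [← mul_assoc]
          exact mul_mem ha hb
        · left
          -- `a = t u`, `b = t v`, `a b = t u t v = u⁻¹ v`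
          have h3 : a = t * (t * a) := by rw [← mul_assoc, c.tt, one_mul]
          have h4 : a * b = (t * a)⁻¹ * (t * b) := by
            calc a * b = (t * (t * a)) * b := by rw [← h3]
              _ = ((t * a)⁻¹ * t) * b := by rw [hcom _ ha]
              _ = _ := by rw [mul_assoc]
          rw [h4]
          exact mul_mem (inv_mem ha) hb
      inv_mem' := by
        rintro a (ha | ha)
        · exact Or.inl (inv_mem ha)
        · right
          show t * a⁻¹ ∈ _
          -- `a = t u`, `a⁻¹ = u⁻¹ t`, `t a⁻¹ = t u⁻¹ t⁻¹ = u`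
          have h1 : t * a⁻¹ = t * a := by
            have h2 : a = t * (t * a) := by rw [← mul_assoc, c.tt, one_mul]
            have h3 : a⁻¹ = (t * a)⁻¹ * t := by
              rw [mul_inv_rev, c.tinv, mul_assoc, c.tt, mul_one]
            rw [h3, ← mul_assoc]
            have h4 := hW _ (inv_mem ha)
            rw [inv_inv, c.tinv] at h4
            exact h4
          rw [h1]
          exact ha }
  have hmem : ∀ h, h ∈ H ↔ (h ∈ Subgroup.zpowers y ∨ t * h ∈ Subgroup.zpowers y) := fun h => Iff.rfl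
  have hno : ∀ w ∈ Subgroup.zpowers y, w * t = t * w → w = 1 := by
    intro w hw h
    have h1 := hW w hw
    rw [← h, mul_inv_cancel_right] at h1
    have h2 : w ^ 2 = 1 := by rw [pow_two]; exact eq_inv_iff_mul_eq_one.1 h1
    have h3 := orderOf_dvd_of_pow_eq_one h2
    have h4 : orderOf w ∣ 3 := by rw [← hy]; exact orderOf_dvd_of_mem_zpowers hw
    have h5 : orderOf w ∣ 1 := by
      have := Nat.dvd_gcd h3 h4
      simpa using this
    exact orderOf_eq_one_iff.1 (Nat.dvd_one.1 h5)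
  refine ⟨H, ?_, ?_, ?_⟩
  · rw [hmem]
    right
    rw [c.tt]
    exact one_mem _
  · have hle : Subgroup.zpowers y ≤ H := fun w hw => Or.inl hw
    have h1 : (Subgroup.zpowers y).relIndex H = 2 := by
      rw [Subgroup.relIndex, Subgroup.index_eq_two_iff]
      refine ⟨⟨t, by rw [hmem]; right; rw [c.tt]; exact one_mem _⟩, fun b => ?_⟩
      rw [Subgroup.mem_subgroupOf, Subgroup.mem_subgroupOf]
      show Xor ((b : Y) * t ∈ Subgroup.zpowers y) ((b : Y) ∈ Subgroup.zpowers y)
      by_cases hb : (b : Y) ∈ Subgroup.zpowers y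
      · refine Or.inr ⟨hb, fun h4 => c.htK (hWK _ ((Subgroup.mul_mem_cancel_left _ hb).1 h4))⟩
      · refine Or.inl ⟨?_, hb⟩
        have h2 := ((hmem b).1 b.2).resolve_left hb
        have h3 := hW _ h2
        -- `b t = t (t b) t⁻¹`
        have h4 : (b : Y) * t = t * (t * b) * t⁻¹ := by
          rw [← mul_assoc, c.tt, one_mul, c.tinv]
        rw [h4, h3]
        exact inv_mem h2
    have h2 := Subgroup.card_mul_index ((Subgroup.zpowers y).subgroupOf H)
    rw [Nat.card_congr (Subgroup.subgroupOfEquivOfLe hle).toEquiv, Nat.card_zpowers, hy] at h2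
    rw [Subgroup.relIndex] at h1
    rw [← h2, h1]
  · intro g hg h
    rcases (hmem g).1 hg with h1 | h1
    · exact Or.inl (hno g h1 h)
    · right
      have h2 := hno _ h1 (by rw [mul_assoc, h])
      rw [← c.tinv]
      exact (eq_inv_of_mul_eq_one_right h2)

end Cfg

end Cfsg.Agent.H796.SlCase
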