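import Cfsg.Agent.H796.PhiCor
import Cfsg.Agent.ClosedRed.Inst

/-!
# The condition `Phi` for the sporadic groups with a sheet (helper796)

`Phi S` for every Sylow 2-subgroup `S` of `J4`, `Suz`, `Co1`, `Co2`, `Th`, `HN`, `Fi24'`, `B`, `M`.
-/

set_option autoImplicit false

namespace Cfsg.Agent.H796.SporPhi

open Subgroup Cfsg Cfsg.Agent.Foote Cfsg.Agent.H799.JSheet Cfsg.Agent.H796.PhiCor

universe u

variable {X : Type u} [Group X] [Finite X]

section JFour

open Cfsg.Agent.KFacts.J4 Cfsg.Agent.J4Type Cfsg.Agent.KFacts.J4.AutP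

omit [Finite X] in
theorem j4 [Finite X] (h : Spor.IsoJ4 X) (S : Sylow 2 X) : Phi (S : Subgroup X) := by
  obtain ⟨h1, h2, ⟨F⟩⟩ := Base.exists_full h
  exact phi_of_cor (Cor.of_sheetE (SheetJ4.sheet F)) (idx_of_rel (Or.inr (SheetMJ4.relIndex_MM F.C.toCent))) S

end JFour

section Suz

open Cfsg.Agent.KFacts

theorem suz (h : Spor.IsoSuz X) (S : Sylow 2 X) : Phi (S : Subgroup X) := by
  have := SuzSheetE.finite_suz
  obtain ⟨e⟩ := h
  exact phi_of_equiv e (phi_of_cor (Cor.of_sheetE SuzSheetE.sheetE)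
    (fun x y hx _ hxP _ => absurd (mem_centralizer_singleton_iff.2 hx) hxP)) S

end Suz

section CoOne

open Cfsg.Agent.KFacts.Co1 Cfsg.Agent.KFacts.Co1.InCo1

theorem co1 (h : Spor.IsoCo1 X) (S : Sylow 2 X) : Phi (S : Subgroup X) := by
  have hc := Cfsg.Agent.CoOneType.Identify.card_co1
  have : Finite Spor.Co1 := Nat.finite_of_card_ne_zero (by rw [hc]; norm_num)
  obtain ⟨o, ho⟩ := Cfsg.Agent.CoOneType.ClosingCo1.exists_octad
  obtain ⟨e⟩ := h
  exact phi_of_equiv e (phi_of_cor (Cor.of_sheetE (CaseM.sheetE ho))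
    (fun x y hx _ hxP _ => absurd (mem_centralizer_singleton_iff.2 hx) hxP)) S

end CoOne

section CoTwo

open Cfsg.Agent.KFacts.CoTwo

theorem co2 (h : Spor.IsoCo2 X) (S : Sylow 2 X) : Phi (S : Subgroup X) := by
  have := Cfsg.Agent.Schreier.CoTwoStab.finite
  have D := QuotInst.dataT
  have := D.simple
  obtain ⟨π, hπ, hker⟩ := D.quot
  obtain ⟨e⟩ := h
  exact phi_of_equiv e (phi_of_cor (Cor.of_large D.large D.nonab D.irr D.ne D.odd π hπ hker D.out)
    (fun x y hx _ hxP _ => absurd (mem_centralizer_singleton_iff.2 hx) hxP)) S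

end CoTwo

/-- `LargeSheet.Data` -/
theorem phi_of_data {K : Type*} [Group K] [Finite K] {Q : Subgroup K} {z : K} {L : Type*}
    [Group L] [IsSimpleGroup L] {π : Subgroup.centralizer ({z} : Set K) →* L}
    (D : Cfsg.Agent.KFacts.LargeSheet.Data Q z L π) (S : Sylow 2 K) : Phi (S : Subgroup K) :=
  phi_of_cor (Cor.of_sheetE D.sheet)
    (fun _ _ hx _ hxP _ => absurd (mem_centralizer_singleton_iff.2 hx) hxP) S

theorem th (h : Spor.IsoTh X) (S : Sylow 2 X) : Phi (S : Subgroup X) := by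
  have := Cfsg.Agent.KFacts.Th.Main.finite
  have hs : IsSimpleGroup (alternatingGroup (Fin 9)) := alternatingGroup.isSimpleGroup (by simp)
  obtain ⟨π, D⟩ := Cfsg.Agent.KFacts.Th.Main.exists_data Cfsg.Agent.KFacts.Th.Main.ctx
  obtain ⟨e⟩ := h
  exact phi_of_equiv e (phi_of_data D) S

section HN

open Cfsg.Agent.KFacts.HN Cfsg.Agent.HN Cfsg.Agent.HN.XStruct Cfsg.Agent.HN.XWords Cfsg.Agent.HN.XQuot

theorem hn (h : Spor.IsoHN X) (S : Sylow 2 X) : Phi (S : Subgroup X) := by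
  have := finite_HN
  have hPP : PP = centralizer ({W0} : Set Spor.HN) := by
    ext x
    rw [mem_centralizer_singleton_iff]
    exact mem_PP
  obtain ⟨e⟩ := h
  exact phi_of_equiv e (phi_of_cor (Cor.of_sheetE sheetE) (idx_of_rel (Or.inr (by rw [← hPP]; exact relIndex_MM)))) S

end HN

section FiTF

open Cfsg.Spor Cfsg.Agent.KFacts.FiTF Cfsg.Agent.KFacts.FiTF.Defs

theorem fi24 (h : Spor.IsoFi24' X) (S : Sylow 2 X) : Phi (S : Subgroup X) := by
  have : Finite Spor.Fi24 := Cfsg.Agent.R08.FiTwentyFour.finite_Fi24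
  have h' := frame
  have hrel := Abs.relIndex_E h' Order.card SheetMFi.card_E
  obtain ⟨e⟩ := h
  rcases hrel with hrel | hrel
  · exact phi_of_equiv e (phi_of_cor (Cor.of_sheetE sheetE) (idx_of_rel (Or.inl hrel))) S
  · exact phi_of_equiv e (phi_of_cor (Cor.of_sheetE sheetE) (idx_of_rel (Or.inr hrel))) S

end FiTF

section Monster

open Cfsg.Agent.MonsterX Cfsg.Agent.MonsterX.MainPack Cfsg.Agent.MonsterX.Model

theorem m (h : Spor.IsoM X) (S : Sylow 2 X) : Phi (S : Subgroup X) := by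
  have A := MonsterU.Uncond.all
  obtain ⟨e⟩ := MonsterP.Equiv.equiv
  have hco := Cfsg.Agent.KFacts.MonsterE.simple_Co1
  have hf := Cfsg.Agent.MonsterX.MainBasic.G_finite A.hO
  obtain ⟨π, D⟩ := Cfsg.Agent.KFacts.MonsterE.data_model A.hG A.hR A.hL A.hO A.hT
  obtain ⟨f⟩ := h
  exact phi_of_equiv (f.trans e) (phi_of_data D) S

end Monster

section Baby

open Cfsg.Agent.BabyM Cfsg.Agent.BabyM.Model Cfsg.Agent.BabyU.ClosModel
open Cfsg.Agent.BabyU.ClosLane Cfsg.Agent.KFacts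

theorem b (h : Spor.IsoB X) (S : Sylow 2 X) : Phi (S : Subgroup X) := by
  have := A.finite_G
  have := A.grp.simple
  obtain ⟨π, hπ, hker⟩ := Baby.Inst.quot A
  have hne : ∃ x ∈ PP Inst.M, x ≠ 1 ∧ x ≠ zz A := by
    obtain ⟨n, h1, h2, -⟩ := Baby.Inst.gen A
    refine ⟨_, h1, fun h3 => ?_, h2⟩
    apply (Baby.Inst.large A).z_ne
    calc zz A = n⁻¹ * (n * zz A * n⁻¹) * n := by group
      _ = 1 := by rw [h3]; group
  obtain ⟨e⟩ := Cfsg.Agent.KFacts.Baby.RowB.exists_iso h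
  exact phi_of_equiv e.symm (phi_of_cor (Cor.of_large (Baby.Inst.large A) (Baby.Inst.nonab A) (Baby.Inst.irr' A) hne
    (Baby.Inst.odd_index A) π hπ hker Baby.Inst.out)
    (fun x y hx _ hxP _ => absurd (mem_centralizer_singleton_iff.2 hx) hxP)) S

end Baby

end Cfsg.Agent.H796.SporPhi
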