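import Cfsg.Agent.H796.TorRow
import Cfsg.Agent.H747.RowTwo

/-!
# Odd order automorphisms of Sylow 2-subgroups in normalisers of tori (helper796)

`N ≤ G` of odd index, `r : N → W` surjective with abelian kernel described by characters `χ a : ℤ^l → k`.
If no element of `W` other than `1`, `-1` is trivial modulo 2 and some element of 2-power order of `W` is a single
Jordan block modulo 2, then `OddRow G`.
-/

set_option autoImplicit false

namespace Cfsg.Agent.H796.TorAbs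

open Subgroup Cfsg.Agent.H796.TorRow

variable {G : Type*} [Group G]

/-- the data -/
structure Tor {N : Subgroup G} {W : Type*} [Group W] {l : ℕ} (r : ↥N →* W)
    (act : W →* Module.End ℤ (Fin l → ℤ)) {k : Type*} [Field k] (χ : G → (Fin l → ℤ) → k) (ζ : k) : Prop where
  surj : Function.Surjective r
  comm : ∀ a b : ↥N, r a = 1 → r b = 1 → a * b = b * a
  mul : ∀ a b : ↥N, r a = 1 → r b = 1 → ∀ x, χ ((a : G) * b) x = χ a x * χ b x
  add : ∀ a : ↥N, r a = 1 → ∀ x y, χ a (x + y) = χ a x * χ a y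
  zero : ∀ a : ↥N, r a = 1 → χ a 0 = 1
  inj : ∀ a : ↥N, r a = 1 → (∀ x, χ a x = 1) → a = 1
  chi_act : ∀ p a : ↥N, r a = 1 → ∀ x, χ ((p : G) * a * (p : G)⁻¹) (act (r p) x) = χ a x
  prim : IsPrimitiveRoot ζ 4
  rich : ∀ i : Fin l, ∃ t : ↥N, r t = 1 ∧ ∀ x, χ t x = ζ ^ (x i)

namespace Tor

variable {N : Subgroup G} {W : Type*} [Group W] {l : ℕ} {r : ↥N →* W}
    {act : W →* Module.End ℤ (Fin l → ℤ)} {k : Type*} [Field k] {χ : G → (Fin l → ℤ) → k} {ζ : k}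
    (H : Tor r act χ ζ)

include H

/-- an element of 2-power order over an element of 2-power order. -/
theorem exists_lift [Finite G] {w : W} {n : ℕ} (hw : w ^ 2 ^ n = 1) : ∃ p : ↥N, r p = w ∧ ∃ j, p ^ 2 ^ j = 1 := by
  obtain ⟨x, hx⟩ := H.surj w
  obtain ⟨a, b, hb, hab⟩ := Nat.exists_eq_two_pow_mul_odd (orderOf_pos x).ne'
  have hco : Nat.Coprime (2 ^ n) b := Nat.Coprime.pow_left n (Nat.coprime_two_left.2 hb)
  obtain ⟨c, hc1, hc2⟩ := Nat.chineseRemainder hco 1 0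
  refine ⟨x ^ c, ?_, a, ?_⟩
  · rw [map_pow, hx]
    have h1 : c ≡ 1 [MOD orderOf w] := hc1.of_dvd (orderOf_dvd_of_pow_eq_one hw)
    rw [pow_eq_pow_iff_modEq.2 h1, pow_one]
  · obtain ⟨d, hd⟩ := (Nat.modEq_zero_iff_dvd.1 hc2)
    rw [← pow_mul, hd]
    have e : b * d * 2 ^ a = orderOf x * d := by rw [hab]; ring
    rw [e, pow_mul, pow_orderOf_eq_one, one_pow]

/-- the elements of order dividing 4 of the kernel are in all Sylow 2-subgroups. -/
theorem mem_sylow {t : ↥N} (ht : r t = 1) (h4 : t ^ 4 = 1) [Finite G] (Q : Sylow 2 ↥N) : t ∈ Q := by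
  have : Fact (Nat.Prime 2) := ⟨Nat.prime_two⟩
  obtain ⟨E, hE⟩ : ∃ E : Subgroup ↥N, ∀ a, a ∈ E ↔ r a = 1 ∧ a ^ 4 = 1 := by
    refine ⟨{ carrier := {a | r a = 1 ∧ a ^ 4 = 1}, mul_mem' := ?_, one_mem' := ?_, inv_mem' := ?_ }, fun a => Iff.rfl⟩
    · rintro a b ⟨ha, ha'⟩ ⟨hb, hb'⟩
      refine ⟨by rw [map_mul, ha, hb, one_mul], ?_⟩
      have h1 : Commute a b := H.comm a b ha hb
      rw [h1.mul_pow, ha', hb', one_mul]
    · exact ⟨map_one r, one_pow 4⟩
    · rintro a ⟨ha, ha'⟩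
      exact ⟨by rw [map_inv, ha, inv_one], by rw [inv_pow, ha', inv_one]⟩
  have hn : E.Normal := ⟨fun a ha g => by
    rw [hE] at ha ⊢
    exact ⟨by rw [map_mul, map_mul, ha.1, mul_one, map_inv, mul_inv_cancel], by rw [conj_pow, ha.2]; group⟩⟩
  have hp : IsPGroup 2 E := fun a => ⟨2, Subtype.ext ((hE _).1 a.2).2⟩
  exact hp.le_sylow_of_normal Q ((hE t).2 ⟨ht, h4⟩)

/-- **The row.** -/
theorem oddRow [Finite G] (hl : 2 ≤ l) (hidx : ¬ 2 ∣ N.index)
    (hK : ∀ w, (∀ x, ∃ y, act w x - x = (2 : ℤ) • y) → w = 1 ∨ ∀ x, act w x = -x) {w : W} {n : ℕ}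
    (hw : w ^ 2 ^ n = 1)
    (hJ : ∃ x₁, ∀ x, ∃ (m : ℤ) (y z : Fin l → ℤ), x = m • x₁ + (act w y - y) + (2 : ℤ) • z) :
    Cfsg.Agent.H747.OddRow G := by
  classical
  have : Fact (Nat.Prime 2) := ⟨Nat.prime_two⟩
  obtain ⟨p, hp, j, hj⟩ := H.exists_lift hw
  have hpp : IsPGroup 2 (zpowers p) := by
    rintro ⟨_, i, rfl⟩
    refine ⟨j, Subtype.ext ?_⟩
    show (p ^ i) ^ 2 ^ j = 1
    rw [← zpow_natCast, ← zpow_mul, mul_comm, zpow_mul, zpow_natCast, hj, one_zpow]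
  obtain ⟨Q, hQ⟩ := hpp.exists_le_sylow
  have hpQ : p ∈ Q := hQ (mem_zpowers p)
  have hP2 : IsPGroup 2 ((Q : Subgroup ↥N).map N.subtype) := Q.2.map _
  have hPi : ¬ 2 ∣ ((Q : Subgroup ↥N).map N.subtype).index := by
    rw [index_map_subtype, Nat.prime_two.dvd_mul]
    rintro (h | h)
    · exact Q.not_dvd_index h
    · exact hidx h
  obtain ⟨P, hP⟩ : ∃ P : Subgroup G, P = (Q : Subgroup ↥N).map N.subtype := ⟨_, rfl⟩
  obtain ⟨A, hA⟩ : ∃ A : Subgroup G, A = ((Q : Subgroup ↥N) ⊓ r.ker).map N.subtype := ⟨_, rfl⟩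
  have hPm : ∀ x, x ∈ P ↔ ∃ a : ↥N, a ∈ Q ∧ (a : G) = x := fun x => by rw [hP]; exact Iff.rfl
  have hAm : ∀ x, x ∈ A ↔ ∃ a : ↥N, (a ∈ Q ∧ r a = 1) ∧ (a : G) = x := fun x => by rw [hA]; exact Iff.rfl
  obtain ⟨ρ, hρ⟩ : ∃ ρ : G → W, ∀ a : ↥N, ρ a = r a := by
    refine ⟨fun g => if h : g ∈ N then r ⟨g, h⟩ else 1, fun a => ?_⟩
    simp
  have D : Dat P A act ρ χ ζ :=
    { le := by
        intro x hx
        obtain ⟨a, ⟨ha, -⟩, rfl⟩ := (hAm x).1 hx
        exact (hPm _).2 ⟨a, ha, rfl⟩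
      two := by rw [hP]; exact hP2
      conj := by
        intro x hx a ha
        obtain ⟨x, hxQ, rfl⟩ := (hPm x).1 hx
        obtain ⟨a, ⟨haQ, ha1⟩, rfl⟩ := (hAm a).1 ha
        refine (hAm _).2 ⟨x * a * x⁻¹, ⟨mul_mem (mul_mem hxQ haQ) (inv_mem hxQ), ?_⟩, rfl⟩
        rw [map_mul, map_mul, ha1, mul_one, map_inv, mul_inv_cancel]
      comm := by
        intro a ha b hb
        obtain ⟨a, ⟨ha, ha1⟩, rfl⟩ := (hAm a).1 ha
        obtain ⟨b, ⟨hb, hb1⟩, rfl⟩ := (hAm b).1 hb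
        exact congrArg Subtype.val (H.comm a b ha1 hb1)
      rho_mul := by
        intro x hx y hy
        obtain ⟨x, hx, rfl⟩ := (hPm x).1 hx
        obtain ⟨y, hy, rfl⟩ := (hPm y).1 hy
        rw [← Subgroup.coe_mul, hρ, hρ, hρ, map_mul]
      ker := by
        intro x hx h1
        obtain ⟨x, hxQ, rfl⟩ := (hPm x).1 hx
        rw [hρ] at h1
        exact (hAm _).2 ⟨x, ⟨hxQ, h1⟩, rfl⟩
      ker' := by
        intro x hx
        obtain ⟨x, ⟨hx, hx1⟩, rfl⟩ := (hAm x).1 hx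
        rw [hρ, hx1]
      mul := by
        intro a ha b hb x
        obtain ⟨a, ⟨ha, ha1⟩, rfl⟩ := (hAm a).1 ha
        obtain ⟨b, ⟨hb, hb1⟩, rfl⟩ := (hAm b).1 hb
        exact H.mul a b ha1 hb1 x
      add := by
        intro a ha x y
        obtain ⟨a, ⟨ha, ha1⟩, rfl⟩ := (hAm a).1 ha
        exact H.add a ha1 x y
      zero := by
        intro a ha
        obtain ⟨a, ⟨ha, ha1⟩, rfl⟩ := (hAm a).1 ha
        exact H.zero a ha1
      inj := by
        intro a ha h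
        obtain ⟨a, ⟨ha, ha1⟩, rfl⟩ := (hAm a).1 ha
        rw [H.inj a ha1 h]
        rfl
      chi_act := by
        intro x hx a ha y
        obtain ⟨x, hx, rfl⟩ := (hPm x).1 hx
        obtain ⟨a, ⟨ha, ha1⟩, rfl⟩ := (hAm a).1 ha
        rw [hρ]
        exact H.chi_act x a ha1 y
      prim := H.prim
      rich := by
        intro i
        obtain ⟨t, ht, h1⟩ := H.rich i
        have hpow : ∀ n : ℕ, r (t ^ n) = 1 ∧ ∀ x, χ ((t ^ n : ↥N) : G) x = (ζ ^ (x i)) ^ n := by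
          intro n
          induction n with
          | zero =>
            refine ⟨by rw [pow_zero, map_one], fun x => ?_⟩
            have h2 := H.mul 1 t (map_one r) ht x
            rw [Subgroup.coe_one, one_mul] at h2
            have h3 : χ t x ≠ 0 := by
              rw [h1]
              exact zpow_ne_zero _ (H.prim.ne_zero (by norm_num))
            rw [pow_zero, pow_zero, Subgroup.coe_one]
            exact (mul_eq_right₀ h3).1 h2.symm
          | succ n ih =>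
            refine ⟨by rw [pow_succ, map_mul, ih.1, ht, one_mul], fun x => ?_⟩
            rw [pow_succ, Subgroup.coe_mul, H.mul _ _ ih.1 ht, ih.2, h1, pow_succ]
        have h4 : t ^ 4 = 1 := by
          refine H.inj _ (hpow 4).1 fun x => ?_
          rw [(hpow 4).2, ← zpow_natCast, ← zpow_mul, mul_comm, zpow_mul, zpow_natCast, H.prim.pow_eq_one, one_zpow]
        exact ⟨t, (hAm _).2 ⟨t, ⟨H.mem_sylow ht h4 Q, ht⟩, rfl⟩, h1⟩ }
  have hmain := fun {g : G} => D.main hl hK (g := g) ⟨p, (hPm _).2 ⟨p, hpQ, rfl⟩, by rw [hρ, hp]; exact hJ⟩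
  refine Cfsg.Agent.H747.OddRow.of_centralizes (hP2.toSylow hPi) fun g hg ho s hs => ?_
  have hs' : s ∈ P := by rw [hP]; exact hs
  rw [IsPGroup.toSylow_coe, ← hP] at hg
  have h1 := hmain ho (fun x hx => (mem_normalizer_iff.1 hg x).1 hx) s hs'
  calc g * s = g * s * g⁻¹ * g := by group
    _ = s * g := by rw [h1]

end Tor

end Cfsg.Agent.H796.TorAbs
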