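import Cfsg.Agent.H796.TorInst

/-!
# Checks of the data for the rows with a torus `±1` (helper796)

* `rep_mul_mat` : matrices of products;
* `Good`, `KOK`, `hK_of` : elements of the Weyl group trivial modulo 2;
* `JOK`, `hJ_of` : an element with a single Jordan block modulo 2;
* `oddRow_of` : the row.
-/

set_option autoImplicit false
set_option linter.unusedSectionVars false

namespace Cfsg.Agent.H796.TorData

open CoxeterSystem Cfsg Cfsg.Lie Cfsg.Lie.ChevalleyDatum
open Cfsg.Agent.ChevalleyStructure Cfsg.Agent.ChevalleyStructure.Elts Cfsg.Agent.ChevalleyStructure.CoxeterGeom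
  Cfsg.Agent.ChevalleyStructure.CoxeterGeomTypes Cfsg.Agent.ChevalleyStructure.NPerm
  Cfsg.Agent.ChevalleyStructure.RootVec
open Cfsg.Agent.Tits.Roots Cfsg.Agent.Tits.Core Cfsg.Agent.Nodes Cfsg.Agent.Nodes.Reps Cfsg.Agent.Nodes.BNOf
  Cfsg.Agent.Nodes.RGDChev
open Cfsg.Agent.H129.TorusChar Cfsg.Agent.H129.WData
open Cfsg.Agent.H796.TorAbs Cfsg.Agent.H796.TorInst

universe u

/-! ### checks -/

/-- a root congruent modulo 2 only to itself and its negative -/
def Good (D : ChevalleyDatum) (l : ℕ) (v : Fin l → ℤ) : Prop :=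
  (∃ i, v i ≠ 0) ∧ (∃ r : Fin D.nroots, ∀ i : Fin l, rt D r i = v i) ∧
    ∀ r : Fin D.nroots, (∀ i : Fin l, (2 : ℤ) ∣ rt D r i - v i) →
      (∀ i : Fin l, rt D r i = v i) ∨ (∀ i : Fin l, rt D r i = - v i)

instance decGood (D : ChevalleyDatum) (l : ℕ) (v : Fin l → ℤ) : Decidable (Good D l v) := by
  unfold Good; infer_instance

/-- the check for the elements trivial modulo 2 -/
def KOK (D : ChevalleyDatum) (l : ℕ) (b C : Mat l) (par : Fin l → Fin l) : Prop :=
  (∀ j, Good D l (b j)) ∧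
  (∀ j : Fin l, (j : ℕ) = 0 ∨ ((par j : ℕ) < j ∧ Good D l (fun i => b j i + b (par j) i))) ∧
  ∀ i m : Fin l, (if i = m then 1 else 0) = ∑ j, C i j * b j m

instance decKOK (D : ChevalleyDatum) (l : ℕ) (b C : Mat l) (par : Fin l → Fin l) : Decidable (KOK D l b C par) := by
  unfold KOK; infer_instance

/-- the check for the single Jordan block -/
def JOK (l : ℕ) (X : Mat l) (x₁ μ : Fin l → ℤ) (Y Z : Mat l) : Prop :=
  ∀ j m : Fin l, (if j = m then 1 else 0) = μ j * x₁ m + ((∑ n, Y j n * X n m) - Y j m) + 2 * Z j m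

instance decJOK (l : ℕ) (X : Mat l) (x₁ μ : Fin l → ℤ) (Y Z : Mat l) : Decidable (JOK l X x₁ μ Y Z) := by
  unfold JOK; infer_instance

section

variable {D : ChevalleyDatum} {l : ℕ} {M : CoxeterMatrix (Fin l)} (hp : IsType D l M)
  {W : Type*} [Group W] (cs : CoxeterSystem M W)

theorem rep_apply_mat {w : W} {X : Mat l} (hX : ∀ j, rep cs hp.isCartan w (sr j) = X j) (x : Fin l → ℤ)
    (m : Fin l) : rep cs hp.isCartan w x m = ∑ j, x j * X j m := by
  conv_lhs => rw [IsMC.eq_sum_sr x]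
  rw [map_sum, Finset.sum_apply]
  refine Finset.sum_congr rfl fun j _ => ?_
  rw [map_zsmul, Pi.smul_apply, smul_eq_mul, hX j]

theorem rep_mul_mat {v w : W} {X Y Z : Mat l} (hX : ∀ j, rep cs hp.isCartan v (sr j) = X j)
    (hY : ∀ j, rep cs hp.isCartan w (sr j) = Y j) (hZ : ∀ j m, Z j m = ∑ n, Y j n * X n m) (j : Fin l) :
    rep cs hp.isCartan (v * w) (sr j) = Z j := by
  rw [rep_mul_apply, hY]
  funext m
  rw [rep_apply_mat hp cs hX, hZ]

theorem eq_one_of_mat {w : W} {X : Mat l} (hX : ∀ j, rep cs hp.isCartan w (sr j) = X j)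
    (h : ∀ j m, X j m = if j = m then 1 else 0) : w = 1 := by
  refine ChevalleyStructure.CoxeterGeom.eq_one_of_fix cs hp.isCartan w fun j => ?_
  have h1 := hX j
  refine h1.trans ?_
  funext m
  rw [h]
  by_cases hm : j = m
  · subst hm; rw [if_pos rfl]; exact (sr_self j).symm
  · rw [if_neg hm]; exact (sr_ne (Ne.symm hm)).symm

theorem neg_of_mat {w : W} {X : Mat l} (hX : ∀ j, rep cs hp.isCartan w (sr j) = X j)
    (h : ∀ j m, X j m = if j = m then -1 else 0) (x : Fin l → ℤ) : rep cs hp.isCartan w x = -x := by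
  funext m
  rw [rep_apply_mat hp cs hX, Finset.sum_eq_single m]
  · rw [h, if_pos rfl, Pi.neg_apply]; ring
  · intro j _ hj
    rw [h, if_neg hj, mul_zero]
  · intro hm
    exact absurd (Finset.mem_univ m) hm

theorem Good.eq {v : Fin l → ℤ} (hv : Good D l v) {w : W}
    (hw : ∀ x, ∃ y, rep cs hp.isCartan w x - x = (2 : ℤ) • y) :
    rep cs hp.isCartan w v = v ∨ rep cs hp.isCartan w v = -v := by
  obtain ⟨-, ⟨r, hr⟩, h2⟩ := hv
  have h3 : IsRoot cs hp.isCartan v := (isRoot_iff hp cs v).2 ⟨r, r.2, funext hr⟩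
  obtain ⟨s, hs, h4⟩ := (isRoot_iff hp cs _).1 (h3.act w)
  obtain ⟨y, hy⟩ := hw v
  rw [← h4] at hy ⊢
  rcases h2 ⟨s, hs⟩ (fun i => ⟨y i, by
    have := congrFun hy i
    rw [Pi.sub_apply, Pi.smul_apply, smul_eq_mul] at this
    exact this⟩) with h5 | h5
  · exact Or.inl (funext h5)
  · exact Or.inr (funext h5)

theorem hK_of {b C : Mat l} {par : Fin l → Fin l} (h : KOK D l b C par) (hl : 0 < l) (w : W)
    (hw : ∀ x, ∃ y, rep cs hp.isCartan w x - x = (2 : ℤ) • y) :
    w = 1 ∨ ∀ x, rep cs hp.isCartan w x = -x := by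
  obtain ⟨h1, h2, h3⟩ := h
  -- the common sign
  obtain ⟨ε, hε, h0⟩ : ∃ ε : ℤ, (ε = 1 ∨ ε = -1) ∧ rep cs hp.isCartan w (b ⟨0, hl⟩) = ε • b ⟨0, hl⟩ := by
    rcases Good.eq hp cs (h1 ⟨0, hl⟩) hw with h4 | h4
    · exact ⟨1, Or.inl rfl, by rw [h4, one_smul]⟩
    · exact ⟨-1, Or.inr rfl, by rw [h4, neg_one_smul]⟩
  have key : ∀ (n : ℕ) (hn : n < l), rep cs hp.isCartan w (b ⟨n, hn⟩) = ε • b ⟨n, hn⟩ := by
    intro n
    induction n using Nat.strong_induction_on with
    | _ n ih =>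
      intro hn
      rcases h2 ⟨n, hn⟩ with h4 | ⟨h4, h5⟩
      · have : n = 0 := h4
        subst this
        exact h0
      have h6 := ih (par ⟨n, hn⟩) h4 (par ⟨n, hn⟩).2
      obtain ⟨u, hu⟩ : ∃ u, u = b ⟨n, hn⟩ := ⟨_, rfl⟩
      obtain ⟨v, hv⟩ : ∃ v, v = b (par ⟨n, hn⟩) := ⟨_, rfl⟩
      have h7 : rep cs hp.isCartan w v = ε • v := by rw [hv]; exact h6
      have h8 : rep cs hp.isCartan w u = u ∨ rep cs hp.isCartan w u = -u := by rw [hu]; exact Good.eq hp cs (h1 _) hw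
      have h9 : rep cs hp.isCartan w (u + v) = u + v ∨ rep cs hp.isCartan w (u + v) = -(u + v) := by
        have e : u + v = fun i => b ⟨n, hn⟩ i + b (par ⟨n, hn⟩) i := by rw [hu, hv]; rfl
        rw [e]
        exact Good.eq hp cs h5 hw
      have hu0 : u ≠ 0 := by
        intro h
        obtain ⟨i, hi⟩ := (h1 ⟨n, hn⟩).1
        rw [← hu, h] at hi
        exact hi rfl
      have hv0 : v ≠ 0 := by
        intro h
        obtain ⟨i, hi⟩ := (h1 (par ⟨n, hn⟩)).1
        rw [← hv, h] at hi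
        exact hi rfl
      have hz : ∀ z : Fin l → ℤ, z = -z → z = 0 := by
        intro z hz
        funext i
        have := congrFun hz i
        rw [Pi.neg_apply] at this
        show z i = 0
        omega
      rw [← hu]
      rw [map_add, h7] at h9
      rcases hε with rfl | rfl
      · rw [one_smul] at h9 ⊢
        rcases h8 with h8 | h8
        · exact h8
        · exfalso
          rw [h8] at h9
          rcases h9 with h9 | h9
          · exact hu0 (hz u (add_right_cancel h9).symm)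
          · refine hv0 (hz v ?_)
            rw [_root_.neg_add] at h9
            exact add_left_cancel h9
      · rw [neg_one_smul] at h9 ⊢
        rcases h8 with h8 | h8
        · exfalso
          rw [h8] at h9
          rcases h9 with h9 | h9
          · exact hv0 (hz v (add_left_cancel h9).symm)
          · refine hu0 (hz u ?_)
            rw [_root_.neg_add] at h9
            exact add_right_cancel h9
        · exact h8
  have hsr : ∀ i, rep cs hp.isCartan w (sr i) = ε • sr i := by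
    intro i
    have e : (sr i : Fin l → ℤ) = ∑ j, C i j • b j := by
      funext m
      rw [Finset.sum_apply]
      simp only [Pi.smul_apply, smul_eq_mul]
      rw [← h3]
      by_cases hm : i = m
      · subst hm; rw [if_pos rfl]; exact sr_self i
      · rw [if_neg hm]; exact sr_ne (Ne.symm hm)
    rw [e, map_sum, Finset.smul_sum]
    refine Finset.sum_congr rfl fun j _ => ?_
    rw [map_zsmul, key j j.2, smul_comm]
  rcases hε with rfl | rfl
  · left
    refine ChevalleyStructure.CoxeterGeom.eq_one_of_fix cs hp.isCartan w fun i => ?_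
    have := hsr i
    rwa [one_smul] at this
  · right
    intro x
    have h4 : ∀ x : Fin l → ℤ, rep cs hp.isCartan w x = (-1 : ℤ) • x := by
      intro x
      conv_lhs => rw [IsMC.eq_sum_sr x]
      conv_rhs => rw [IsMC.eq_sum_sr x]
      rw [map_sum, Finset.smul_sum]
      refine Finset.sum_congr rfl fun j _ => ?_
      rw [map_zsmul, hsr, smul_comm]
    rw [h4, neg_one_smul]

theorem hJ_of {w : W} {X : Mat l} (hX : ∀ j, rep cs hp.isCartan w (sr j) = X j) {x₁ μ : Fin l → ℤ} {Y Z : Mat l}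
    (h : JOK l X x₁ μ Y Z) : ∃ x₁, ∀ x, ∃ (m : ℤ) (y z : Fin l → ℤ),
      x = m • x₁ + (rep cs hp.isCartan w y - y) + (2 : ℤ) • z := by
  refine ⟨x₁, fun x => ⟨∑ j, x j * μ j, ∑ j, x j • Y j, ∑ j, x j • Z j, ?_⟩⟩
  have h1 : ∀ j, (sr j : Fin l → ℤ) = μ j • x₁ + (rep cs hp.isCartan w (Y j) - Y j) + (2 : ℤ) • Z j := by
    intro j
    funext m
    rw [Pi.add_apply, Pi.add_apply, Pi.sub_apply, Pi.smul_apply, Pi.smul_apply, rep_apply_mat hp cs hX]
    simp only [smul_eq_mul]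
    rw [← h j m]
    by_cases hm : j = m
    · subst hm; rw [if_pos rfl]; exact sr_self j
    · rw [if_neg hm]; exact sr_ne (Ne.symm hm)
  calc x = ∑ j, x j • (sr j : Fin l → ℤ) := IsMC.eq_sum_sr x
    _ = ∑ j, x j • (μ j • x₁ + (rep cs hp.isCartan w (Y j) - Y j) + (2 : ℤ) • Z j) :=
        Finset.sum_congr rfl fun j _ => by rw [← h1]
    _ = _ := by
        simp only [smul_add, smul_sub, Finset.sum_add_distrib, Finset.sum_sub_distrib, map_sum, Finset.sum_smul,
          Finset.smul_sum, map_zsmul, smul_smul]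
        congr 1
        exact Finset.sum_congr rfl fun j _ => by rw [mul_comm]

end

/-! ### valuations -/

theorem val {q m : ℕ} (hm : 4 ∣ m) (hm0 : m ≠ 0) (hq : q = m + 1 ∨ q + 1 = m) {n : ℕ} (hn0 : n ≠ 0)
    (hn : Even n) : padicValNat 2 (q ^ n - 1) = padicValNat 2 m + padicValNat 2 n := by
  obtain ⟨c, rfl⟩ := hm
  have hc : c ≠ 0 := by rintro rfl; exact hm0 rfl
  have h1 : ∀ a : ℕ, padicValNat 2 (4 * a + 2) = 1 := by
    intro a
    have h2 : ¬ 2 ∣ 2 * a + 1 := by omega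
    have e : 4 * a + 2 = 2 * (2 * a + 1) := by ring
    rw [e, padicValNat.mul (by norm_num) (by omega), padicValNat.self (by norm_num),
      padicValNat.eq_zero_of_not_dvd h2]
  have h2 := padicValNat.pow_two_sub_pow (x := q) (y := 1) (by omega) (by omega) (by omega) hn0 hn
  rw [one_pow] at h2
  rcases hq with rfl | hq
  · have e1 : 4 * c + 1 + 1 = 4 * c + 2 := by ring
    have e2 : 4 * c + 1 - 1 = 4 * c := by omega
    rw [e1, e2, h1] at h2
    omega
  · have e1 : q - 1 = 4 * (c - 1) + 2 := by omega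
    rw [e1, h1, hq] at h2
    omega

theorem val_prod {q m : ℕ} (hm : 4 ∣ m) (hm0 : m ≠ 0) (hq : q = m + 1 ∨ q + 1 = m) :
    ∀ ds : List ℕ, (∀ d ∈ ds, d ≠ 0 ∧ Even d) → ds.prod ≠ 0 ∧ (ds.map fun d => q ^ d - 1).prod ≠ 0 ∧
      padicValNat 2 (ds.map fun d => q ^ d - 1).prod = ds.length * padicValNat 2 m + padicValNat 2 ds.prod := by
  intro ds
  induction ds with
  | nil => intro _; simp
  | cons d ds ih =>
    intro h
    obtain ⟨h1, h2, h3⟩ := ih fun x hx => h x (List.mem_cons_of_mem _ hx)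
    obtain ⟨hd0, hd⟩ := h d List.mem_cons_self
    have hpow : q ^ d - 1 ≠ 0 := by
      have : 1 < q ^ d := Nat.one_lt_pow hd0 (by omega)
      omega
    rw [List.map_cons, List.prod_cons, List.prod_cons, List.length_cons]
    refine ⟨mul_ne_zero hd0 h1, mul_ne_zero hpow h2, ?_⟩
    rw [padicValNat.mul hpow h2, padicValNat.mul hd0 h1, h3, val hm hm0 hq hd0 hd]
    ring

/-- the index is odd. -/
theorem odd_of_card {q m l c N : ℕ} (hm : 4 ∣ m) (hm0 : m ≠ 0) (hq : q = m + 1 ∨ q + 1 = m) (ds : List ℕ)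
    (hds : ∀ d ∈ ds, d ≠ 0 ∧ Even d) (hlen : ds.length = l)
    (hc : m ^ l * ds.prod * c = q ^ N * (ds.map fun d => q ^ d - 1).prod) : ¬ 2 ∣ c := by
  intro h2c
  obtain ⟨h1, h2, h3⟩ := val_prod hm hm0 hq ds hds
  have hqn : q ^ N ≠ 0 := pow_ne_zero _ (by omega)
  have hc0 : c ≠ 0 := by
    rintro rfl
    rw [mul_zero] at hc
    exact mul_ne_zero hqn h2 hc.symm
  have hv := congrArg (padicValNat 2) hc
  have hq0 : padicValNat 2 (q ^ N) = 0 := padicValNat.eq_zero_of_not_dvd fun h => by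
    have := Nat.prime_two.dvd_of_dvd_pow h
    omega
  have hmp : m ^ l ≠ 0 := pow_ne_zero _ hm0
  rw [padicValNat.mul (mul_ne_zero hmp h1) hc0, padicValNat.mul hmp h1, padicValNat.pow, padicValNat.mul hqn h2, hq0,
    h3, hlen] at hv
  have h4 : 1 ≤ padicValNat 2 c := one_le_padicValNat_of_dvd hc0 h2c
  omega

/-- **The row.** -/
theorem oddRow_of {D : ChevalleyDatum} {l : ℕ} {M : CoxeterMatrix (Fin l)} (hp : IsType D l M)
    {W : Type*} [Group W] (cs : CoxeterSystem M W) [Finite W] {F : Type u} [Field F] [Fintype F] {q : ℕ}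
    (hq : Fintype.card F = q) (hodd : Odd q) {B' : Fin l → Fin l → ℤ} (hB : InvC D l 1 B') (hl : 2 ≤ l)
    (hminus : ∃ w0 : W, ∀ x, rep cs hp.isCartan w0 x = -x)
    (hK : ∀ w : W, (∀ x, ∃ y, rep cs hp.isCartan w x - x = (2 : ℤ) • y) →
      w = 1 ∨ ∀ x, rep cs hp.isCartan w x = -x) {w : W} {n : ℕ} (hw : w ^ 2 ^ n = 1)
    (hJ : ∃ x₁, ∀ x, ∃ (m : ℤ) (y z : Fin l → ℤ),
      x = m • x₁ + (rep cs hp.isCartan w y - y) + (2 : ℤ) • z)
    (hcard : ∀ m : ℕ, 4 ∣ m → m ≠ 0 → (q = m + 1 ∨ q + 1 = m) → ∀ c : ℕ,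
      m ^ l * Nat.card W * c = Nat.card ↥(D.group F) → ¬ 2 ∣ c) : Cfsg.Agent.H747.OddRow ↥(D.group F) := by
  have : Finite ↥(D.group F) := inferInstance
  have hq1 : 1 < q := by rw [← hq]; exact Fintype.one_lt_card
  obtain ⟨m, w0, s, hs, hw0, hms, h4, hm0, hqm⟩ : ∃ (m : ℕ) (w0 : W) (s : ℤ), (s = 1 ∨ s = -1) ∧
      (∀ x, rep cs hp.isCartan w0 x = s • x) ∧ ((m : ℤ) = q - s) ∧ 4 ∣ m ∧ m ≠ 0 ∧ (q = m + 1 ∨ q + 1 = m) := by
    obtain ⟨c, hc⟩ := hodd
    rcases Nat.even_or_odd' c with ⟨d, hd | hd⟩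
    · refine ⟨4 * d, 1, 1, Or.inl rfl, fun x => by rw [map_one, Module.End.one_apply, one_smul], ?_,
        ⟨d, rfl⟩, by omega, by omega⟩
      push_cast
      omega
    · obtain ⟨w0, hw0⟩ := hminus
      refine ⟨4 * (d + 1), w0, -1, Or.inr rfl, fun x => by rw [hw0, neg_one_smul], ?_, ⟨d + 1, rfl⟩, by omega,
        by omega⟩
      push_cast
      omega
  obtain ⟨N, r, χ, ζ, H, hN⟩ := exists_tor hp cs hq hB hs hw0 hms h4 hm0
  refine H.oddRow hl (hcard m h4 hm0 hqm _ ?_) hK hw hJ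
  rw [← hN, N.card_mul_index]

end Cfsg.Agent.H796.TorData
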