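import Cfsg.Agent.H129.TorusUntw
import Cfsg.Agent.H129.TorAct
import Cfsg.Agent.H129.WData
import Cfsg.Agent.H796.TorAbs

/-!
# Normalisers of split and totally inverted tori of the untwisted groups (helper796)

`D` of type `hp : IsType D l M` with unimodular Cartan matrix, `F` a finite field with `q` elements, `w₀` acting as
`s = ±1` on the root lattice, `m = q - s` divisible by 4. There is `N ≤ D.group F` of order `m ^ l * |W|` with the data
`Tor` for the reflection representation (`exists_tor`).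
-/

set_option autoImplicit false
set_option linter.unusedSectionVars false

namespace Cfsg.Agent.H796.TorInst

open CoxeterSystem Cfsg Cfsg.Lie Cfsg.Lie.ChevalleyDatum
open Cfsg.Agent.ChevalleyStructure Cfsg.Agent.ChevalleyStructure.Elts Cfsg.Agent.ChevalleyStructure.CoxeterGeom
  Cfsg.Agent.ChevalleyStructure.CoxeterGeomTypes Cfsg.Agent.ChevalleyStructure.NPerm
open Cfsg.Agent.Tits.Roots Cfsg.Agent.Tits.Core Cfsg.Agent.Nodes Cfsg.Agent.Nodes.Reps Cfsg.Agent.Nodes.BNOf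
  Cfsg.Agent.Nodes.RGDChev Cfsg.Agent.Nodes.Bruhat Cfsg.Agent.Nodes.SubComb Cfsg.Agent.Nodes.Coroot
open Cfsg.Agent.KFacts.RgdField Cfsg.Agent.KFacts.RgdChevCoord Cfsg.Agent.BpExc.TorCent Cfsg.Agent.BpExc.TorChev
open Cfsg.Agent.GpExc.Field Cfsg.Agent.BpExc.Tow Cfsg.Agent.BpExc.TowChev Cfsg.Agent.BpExc.Fr
  Cfsg.Agent.BpExc.LangFr Cfsg.Agent.LangThm Cfsg.Agent.BpExc Cfsg.Agent.H129.TorusChar Cfsg.Agent.H129.TorusCent
  Cfsg.Agent.H129.TorusTw Cfsg.Agent.H129.TorusMain Cfsg.Agent.H129.TorusUntw Cfsg.Agent.H129.TorAct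
open Cfsg.Agent.H796.TorAbs

universe u

variable {D : ChevalleyDatum} {l : ℕ} {M : CoxeterMatrix (Fin l)} (hp : IsType D l M) {k : Type u} [Field k]
  {W : Type*} [Group W] (cs : CoxeterSystem M W)

/-! ### separation -/

/-- the torus separates the characters. -/
theorem eq_zero_of_cX [IsAlgClosed k] (p : ℕ) [Fact p.Prime] [CharP k p] {B' : Fin l → Fin l → ℤ}
    (hB : InvC D l 1 B') {x : Fin l → ℤ} (h : ∀ t ∈ TT D k, cX hp t x = 1) : x = 0 := by
  by_contra hne
  obtain ⟨i, hi⟩ : ∃ i, x i ≠ 0 := by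
    by_contra hcon
    push Not at hcon
    exact hne (funext hcon)
  obtain ⟨n, hn⟩ : ∃ n : ℕ, n = p * (x i).natAbs + 1 := ⟨_, rfl⟩
  have hp1 := (Fact.out : p.Prime).one_lt
  have hnk : (n : k) ≠ 0 := by
    rw [Ne, CharP.cast_eq_zero_iff k p, hn]
    intro h1
    have h2 : p ∣ 1 := (Nat.dvd_add_right (Dvd.intro _ rfl)).1 h1
    exact hp1.ne' (Nat.dvd_one.1 h2)
  have : NeZero (n : k) := ⟨hnk⟩
  obtain ⟨c, hc⟩ := HasEnoughRootsOfUnity.exists_primitiveRoot k n
  have hc0 : c ≠ 0 := hc.ne_zero (by omega)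
  have hφ : IsMC (fun y : Fin l → ℤ => c ^ y i) :=
    ⟨by simp, fun y z => by show c ^ (y i + z i) = _; rw [zpow_add₀ hc0]⟩
  obtain ⟨t, ht, h1⟩ := exists_cX hp hB one_ne_zero hφ fun j => ⟨_, pow_one _⟩
  have h2 := h t ht
  rw [h1, hc.zpow_eq_one_iff_dvd] at h2
  have h3 : n ≤ (x i).natAbs := Nat.le_of_dvd (Int.natAbs_pos.2 hi) (Int.natCast_dvd.1 h2)
  have h4 : (x i).natAbs ≤ p * (x i).natAbs := Nat.le_mul_of_pos_left _ (by omega)
  omega

/-- an element of the normaliser of the torus represents one Weyl group element. -/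
theorem rp_inj [IsAlgClosed k] (hk : LocFin k) {hN : NSys M (TT D k) (nc hp k)} (p : ℕ) [Fact p.Prime] [CharP k p]
    {B' : Fin l → Fin l → ℤ} (hB : InvC D l 1 B') {v w : W} {y : ↥(D.group k)} (h1 : Rp cs hN v y)
    (h2 : Rp cs hN w y) : v = w := by
  have h3 : Rp cs hN (v⁻¹ * w) 1 := by
    have := h1.inv.mul h2
    rwa [inv_mul_cancel] at this
  have h4 : v⁻¹ * w = 1 := by
    refine ChevalleyStructure.CoxeterGeom.eq_one_of_fix cs hp.isCartan _ fun i => ?_
    rw [← sub_eq_zero]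
    refine eq_zero_of_cX (k := k) hp p hB fun t ht => ?_
    have h5 := cX_rp hp cs hk p h3 ht (sr i)
    rw [one_mul, inv_one, mul_one] at h5
    have h6 := (isMC_cX hp ht).sub (rep cs hp.isCartan (v⁻¹ * w) (sr i)) (sr i)
    rw [h5, div_self ((isMC_cX hp ht).ne_zero _)] at h6
    exact h6
  exact inv_mul_eq_one.1 h4

/-- representatives fixed by the Frobenius. -/
theorem exists_std [IsAlgClosed k] {p e : ℕ} [Fact p.Prime] [CharP k p] {hN : NSys M (TT D k) (nc hp k)} (v : W) :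
    ∃ m, Rp cs hN v m ∧ phi D k p e m = m := by
  obtain ⟨m, hm, hr⟩ := exists_rp_closure (cs := cs) (hN := hN) v
  refine ⟨m, hr, ?_⟩
  have h1 : Subgroup.closure (Set.range (nc hp k)) ≤
      (phi D k p e).toMonoidHom.eqLocus (MonoidHom.id ↥(D.group k)) := by
    rw [Subgroup.closure_le]
    rintro _ ⟨i, rfl⟩
    show phi D k p e (nc hp k i) = nc hp k i
    rw [phi_eq hp, emb_nc]
  exact h1 hm

/-! ### the twisted torus of `±1` -/

section Tw

variable {p e : ℕ} [Fact p.Prime] [CharP k p] {w0 : W} {s : ℤ} (hs : s = 1 ∨ s = -1)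
  (hw0 : ∀ x, rep cs hp.isCartan w0 x = s • x) {m : ℕ} (hm : (m : ℤ) = (p ^ e : ℕ) - s)

theorem sq_eq (hs : s = 1 ∨ s = -1) : s * s = 1 := by
  rcases hs with rfl | rfl <;> norm_num

theorem isMC_zpow {φ : (Fin l → ℤ) → k} (h : IsMC φ) (n : ℤ) : IsMC (fun x => φ x ^ n) where
  zero := by
    show φ 0 ^ n = 1
    rw [h.zero, one_zpow]
  add x y := by
    show φ (x + y) ^ n = φ x ^ n * φ y ^ n
    rw [h.add, mul_zpow]

include cs hs hw0 in
/-- the characters of `n σ(t) n⁻¹`. -/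
theorem cX_tw [IsAlgClosed k] (hk : LocFin k) {hN : NSys M (TT D k) (nc hp k)} {n : ↥(D.group k)}
    (hn : Rp cs hN w0 n) {t : ↥(D.group k)} (ht : t ∈ TT D k) (x : Fin l → ℤ) :
    cX hp (n * phi D k p e t * n⁻¹) x = cX hp t x ^ (s * (p ^ e : ℕ)) := by
  have h := cX_tau hp cs hk isFrob_phi (fr_phi (p := p) (e := e) hp cs) hn ht (s • x)
  rw [theta_apply, AddEquiv.refl_apply, hw0, smul_smul, sq_eq hs, one_smul, (isMC_cX hp ht).zsmul] at h
  rw [h, ← zpow_natCast, ← zpow_mul]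

include cs hs hw0 hm in
theorem tw_iff [IsAlgClosed k] (hk : LocFin k) {hN : NSys M (TT D k) (nc hp k)} {n : ↥(D.group k)}
    (hn : Rp cs hN w0 n) {t : ↥(D.group k)} (ht : t ∈ TT D k) :
    n * phi D k p e t * n⁻¹ = t ↔ ∀ i, cX hp t (sr i) ^ m = 1 := by
  have hmem := tau_mem hp cs (fr_phi (p := p) (e := e) hp cs) hn ht
  have key : ∀ i, cX hp (n * phi D k p e t * n⁻¹) (sr i) = cX hp t (sr i) ↔ cX hp t (sr i) ^ m = 1 := by
    intro i
    have h0 := (isMC_cX hp ht).ne_zero (sr i)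
    rw [cX_tw hp cs hs hw0 hk hn ht, ← zpow_natCast, hm]
    have e1 : cX hp t (sr i) ^ (s * (p ^ e : ℕ) : ℤ) = cX hp t (sr i) *
        (cX hp t (sr i) ^ (((p ^ e : ℕ) : ℤ) - s)) ^ s := by
      rw [← zpow_mul]
      nth_rewrite 2 [← zpow_one (cX hp t (sr i))]
      rw [← zpow_add₀ h0]
      congr 1
      have := sq_eq hs
      linear_combination this
    rw [e1, mul_eq_left₀ h0]
    rcases hs with rfl | rfl
    · rw [zpow_one]
    · rw [zpow_neg_one, inv_eq_one]
  constructor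
  · intro h i
    rw [← key, h]
  · intro h
    exact cX_inj hp hmem ht fun i => (key i).2 (h i)

include cs hs hw0 hm in
/-- Lang's theorem. -/
theorem tw_lang [IsAlgClosed k] (hk : LocFin k) {hN : NSys M (TT D k) (nc hp k)} {n : ↥(D.group k)}
    (hn : Rp cs hN w0 n) (hm0 : m ≠ 0) {B' : Fin l → Fin l → ℤ} (hB : InvC D l 1 B') {t0 : ↥(D.group k)}
    (ht0 : t0 ∈ TT D k) : ∃ t ∈ TT D k, t = t0 * (n * phi D k p e t * n⁻¹) := by
  have hroot : ∀ i, ∃ b : k, b ^ m = cX hp t0 (sr i) ^ (-s) := fun i =>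
    IsAlgClosed.exists_pow_nat_eq _ (Nat.pos_of_ne_zero hm0)
  choose b hb using hroot
  have hb0 : ∀ i, b i ≠ 0 := by
    intro i h0
    have h1 := hb i
    rw [h0, zero_pow hm0] at h1
    exact zpow_ne_zero _ ((isMC_cX hp ht0).ne_zero _) h1.symm
  have hφ : IsMC (fun x : Fin l → ℤ => ∏ i, b i ^ x i) := IsMC.of_prod _ hb0
  obtain ⟨t, ht, hc⟩ := exists_cX hp hB one_ne_zero hφ fun j => ⟨_, pow_one _⟩
  have hval : ∀ i, cX hp t (sr i) = b i := by
    intro i
    rw [hc]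
    show ∏ j, (b j) ^ (sr i : Fin l → ℤ) j = _
    rw [Finset.prod_eq_single i]
    · rw [sr_self, zpow_one]
    · intro j _ hj
      rw [sr_ne hj, zpow_zero]
    · intro hi
      exact absurd (Finset.mem_univ i) hi
  have hmem := tau_mem hp cs (fr_phi (p := p) (e := e) hp cs) hn ht
  refine ⟨t, ht, cX_inj hp ht (mul_mem ht0 hmem) fun i => ?_⟩
  have h0 := (isMC_cX hp ht).ne_zero (sr i)
  have h1 : cX hp t0 (sr i) = (cX hp t (sr i) ^ m) ^ (-s) := by
    rw [hval, hb, ← zpow_mul]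
    have e1 : -s * -s = 1 := by rw [neg_mul_neg, sq_eq hs]
    rw [e1, zpow_one]
  rw [cX_mul hp ht0 hmem, cX_tw hp cs hs hw0 hk hn ht, h1, ← zpow_natCast, ← zpow_mul, ← zpow_add₀ h0, hm]
  have e2 : (((p ^ e : ℕ) : ℤ) - s) * -s + s * (p ^ e : ℕ) = 1 := by
    have := sq_eq hs
    linear_combination this
  rw [e2, zpow_one]

end Tw

/-! ### the finite group -/

section Fin

/-- the characters of order dividing `m` -/
theorem card_tor [IsAlgClosed k] {B' : Fin l → Fin l → ℤ} (hB : InvC D l 1 B') {m : ℕ} (hmk : (m : k) ≠ 0) :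
    Nat.card {t : ↥(D.group k) // t ∈ TT D k ∧ ∀ i, cX hp t (sr i) ^ m = 1} = m ^ l := by
  have : NeZero (m : k) := ⟨hmk⟩
  have hm0 : m ≠ 0 := by rintro rfl; exact hmk Nat.cast_zero
  have : NeZero m := ⟨hm0⟩
  have h1 : Nat.card (Fin l → rootsOfUnity m k) = m ^ l := by
    rw [Nat.card_fun, HasEnoughRootsOfUnity.natCard_rootsOfUnity, Nat.card_eq_fintype_card, Fintype.card_fin]
  rw [← h1]
  refine Nat.card_eq_of_bijective (fun t i => (⟨Units.mk0 (cX hp t.1 (sr i)) ((isMC_cX hp t.2.1).ne_zero _),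
    (mem_rootsOfUnity _ _).2 (Units.ext (t.2.2 i))⟩ : rootsOfUnity m k)) ⟨?_, ?_⟩
  · intro t t' h
    refine Subtype.ext (cX_inj hp t.2.1 t'.2.1 fun i => ?_)
    have h2 := congrFun h i
    exact congrArg (fun z : rootsOfUnity m k => ((z : kˣ) : k)) h2
  · intro c
    have hφ : IsMC (fun x : Fin l → ℤ => ∏ i, (((c i : kˣ)) : k) ^ x i) := IsMC.of_prod _ fun i => Units.ne_zero _
    obtain ⟨t, ht, hc⟩ := exists_cX hp hB one_ne_zero hφ fun j => ⟨_, pow_one _⟩
    have hval : ∀ i, cX hp t (sr i) = ((c i : kˣ) : k) := by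
      intro i
      rw [hc]
      show ∏ j, (((c j : kˣ)) : k) ^ (sr i : Fin l → ℤ) j = _
      rw [Finset.prod_eq_single i]
      · rw [sr_self, zpow_one]
      · intro j _ hj
        rw [sr_ne hj, zpow_zero]
      · intro hi
        exact absurd (Finset.mem_univ i) hi
    refine ⟨⟨t, ht, fun i => ?_⟩, ?_⟩
    · rw [hval, ← Units.val_pow_eq_pow_val, (mem_rootsOfUnity _ _).1 (c i).2, Units.val_one]
    · funext i
      exact Subtype.ext (Units.ext (hval i))

variable {F : Type u} [Field F] [Fintype F]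

include cs in
/-- **The normaliser of the torus `±1`.** -/
theorem exists_tor [Finite W] {q : ℕ} (hq : Fintype.card F = q) {B' : Fin l → Fin l → ℤ} (hB : InvC D l 1 B')
    {w0 : W} {s : ℤ} (hs : s = 1 ∨ s = -1) (hw0 : ∀ x, rep cs hp.isCartan w0 x = s • x) {m : ℕ}
    (hm : (m : ℤ) = q - s) (h4 : 4 ∣ m) (hm0 : m ≠ 0) :
    ∃ (N : Subgroup ↥(D.group F)) (r : ↥N →* W) (χ : ↥(D.group F) → (Fin l → ℤ) → AlgebraicClosure F)
      (ζ : AlgebraicClosure F), Tor r (rep cs hp.isCartan) χ ζ ∧ Nat.card N = m ^ l * Nat.card W := by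
  obtain ⟨p, e, hpF, hpc, hpk, he, rfl, hk⟩ := exists_closure hq
  have hN : NSys M (TT D (AlgebraicClosure F)) (nc hp (AlgebraicClosure F)) := nsys_of_locFin hp cs hk p
  obtain ⟨n, hn⟩ := exists_rp cs hN w0
  obtain ⟨z, hz⟩ := lang_all hp cs he isFrob_phi (fr_phi (p := p) (e := e) hp cs) 1 n
  rw [map_one, one_mul] at hz
  set σ := phi D (AlgebraicClosure F) p e with hσ
  have hσz : σ z = z * n := by rw [hz]; group
  -- the twisted embedding
  obtain ⟨e1, he1⟩ : ∃ e1 : ↥(D.group F) →* ↥(D.group (AlgebraicClosure F)),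
      ∀ x, e1 x = z⁻¹ * emb hp.inList (algebraMap F (AlgebraicClosure F)) x * z :=
    ⟨(MulAut.conj z⁻¹).toMonoidHom.comp (emb hp.inList (algebraMap F (AlgebraicClosure F))), fun x => by
      show z⁻¹ * _ * z⁻¹⁻¹ = _
      rw [inv_inv]⟩
  have hinj : Function.Injective e1 := by
    intro x y h
    rw [he1, he1] at h
    exact emb_injective hp.inList _ (mul_left_cancel (mul_right_cancel h))
  have hfix : ∀ x, n * σ (e1 x) * n⁻¹ = e1 x := by
    intro x
    have h1 := phi_emb (e := e) hp (algebraMap F (AlgebraicClosure F)) hq x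
    rw [he1, map_mul, map_mul, map_inv, ← hσ] at *
    rw [h1, hσz]
    group
  have hrange : ∀ y, n * σ y * n⁻¹ = y → ∃ x, e1 x = y := by
    intro y hy
    have h1 : σ (z * y * z⁻¹) = z * y * z⁻¹ := by
      rw [map_mul, map_mul, map_inv, hσz]
      calc z * n * σ y * (z * n)⁻¹ = z * (n * σ y * n⁻¹) * z⁻¹ := by group
        _ = z * y * z⁻¹ := by rw [hy]
    obtain ⟨x, hx⟩ := fix_range hp cs _ hq hB one_ne_zero (fun a => ⟨a, pow_one a⟩) h1
    refine ⟨x, ?_⟩
    rw [he1, hx]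
    group
  -- `N`
  obtain ⟨N, hNdef⟩ : ∃ N : Subgroup ↥(D.group F), ∀ x, x ∈ N ↔ ∃ w, Rp cs hN w (e1 x) :=
    ⟨(NN cs hN).comap e1, fun x => Iff.rfl⟩
  have hex : ∀ x : ↥N, ∃ w, Rp cs hN w (e1 x) := fun x => (hNdef x).1 x.2
  choose f hf using hex
  let r : ↥N →* W :=
    { toFun := f
      map_one' := rp_inj hp cs hk p hB (hf 1) (by rw [Subgroup.coe_one, map_one]; exact rp_one)
      map_mul' := fun a b => rp_inj hp cs hk p hB (hf (a * b)) (by
        rw [Subgroup.coe_mul, map_mul]; exact (hf a).mul (hf b)) }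
  have hr : ∀ x : ↥N, Rp cs hN (r x) (e1 x) := hf
  have hker : ∀ x : ↥N, r x = 1 ↔ e1 x ∈ TT D (AlgebraicClosure F) := by
    intro x
    constructor
    · intro h
      have h1 := hr x
      rw [h] at h1
      exact h1.mem_of_one
    · intro h
      exact rp_inj hp cs hk p hB (hr x) (rp_of_mem h)
  have hmk : (m : AlgebraicClosure F) ≠ 0 := by
    rw [Ne, CharP.cast_eq_zero_iff (AlgebraicClosure F) p]
    intro h1
    have h2 : (p : ℤ) ∣ (m : ℤ) := Int.natCast_dvd_natCast.2 h1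
    have h3 : (p : ℤ) ∣ ((p ^ e : ℕ) : ℤ) := Int.natCast_dvd_natCast.2 (dvd_pow_self p he.ne')
    have h4' : (p : ℤ) ∣ s := by
      have := dvd_sub h3 h2
      rwa [hm, sub_sub_cancel] at this
    have h5 : (p : ℤ) ∣ 1 := by
      rw [← sq_eq hs]
      exact h4'.mul_left s
    have h6 := Int.natCast_dvd_natCast.1 (by simpa using h5 : (p : ℤ) ∣ ((1 : ℕ) : ℤ))
    exact hpF.out.one_lt.ne' (Nat.dvd_one.1 h6)
  have htw : ∀ t ∈ TT D (AlgebraicClosure F), (n * σ t * n⁻¹ = t ↔ ∀ i, cX hp t (sr i) ^ m = 1) :=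
    fun t ht => tw_iff hp cs hs hw0 hm hk hn ht
  -- surjectivity
  have hsurj : Function.Surjective r := by
    intro v
    obtain ⟨m0, hm0r, hm0f⟩ := exists_std (p := p) (e := e) (hN := hN) hp cs v
    have hcomm : w0 * v * w0⁻¹ = v := by
      apply rep_injective cs hp.isCartan
      apply LinearMap.ext
      intro x
      rw [mul_assoc, rep_mul_apply, rep_mul_apply, hw0, ← map_zsmul, ← hw0, rep_apply_inv]
    have h1 : Rp cs hN v (n * σ m0 * n⁻¹) := by
      have h2 := (hn.mul hm0r).mul hn.inv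
      rw [hcomm] at h2
      rw [hσ, hm0f]
      exact h2
    have h3 : m0⁻¹ * (n * σ m0 * n⁻¹) ∈ TT D (AlgebraicClosure F) := hm0r.unique h1
    obtain ⟨t, ht, h5⟩ := tw_lang hp cs hs hw0 hm hk hn hm0 hB h3
    have h6 : n * σ (m0 * t) * n⁻¹ = m0 * t := by
      rw [map_mul]
      calc n * (σ m0 * σ t) * n⁻¹ = m0 * ((m0⁻¹ * (n * σ m0 * n⁻¹)) * (n * σ t * n⁻¹)) := by group
        _ = m0 * t := by rw [← h5]
    obtain ⟨x, hx⟩ := hrange _ h6
    have h7 : Rp cs hN v (e1 x) := by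
      rw [hx]
      exact hm0r.mul_mem_right ht
    exact ⟨⟨x, (hNdef x).2 ⟨v, h7⟩⟩, rp_inj hp cs hk p hB (hr _) h7⟩
  -- the root of unity
  have h4k : ((4 : ℕ) : AlgebraicClosure F) ≠ 0 := by
    obtain ⟨c, hc⟩ := h4
    intro h0
    apply hmk
    rw [hc, Nat.cast_mul, h0, zero_mul]
  have : NeZero ((4 : ℕ) : AlgebraicClosure F) := ⟨h4k⟩
  obtain ⟨ζ, hζ⟩ := HasEnoughRootsOfUnity.exists_primitiveRoot (AlgebraicClosure F) 4
  have hζ0 : ζ ≠ 0 := hζ.ne_zero (by norm_num)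
  refine ⟨N, r, fun x => cX hp (e1 x), ζ, ?_, ?_⟩
  · exact
      { surj := hsurj
        comm := by
          intro a b ha hb
          apply Subtype.ext
          apply hinj
          rw [Subgroup.coe_mul, Subgroup.coe_mul, map_mul, map_mul]
          exact TT_comm hp _ ((hker a).1 ha) _ ((hker b).1 hb)
        mul := by
          intro a b ha hb x
          rw [map_mul]
          exact cX_mul hp ((hker a).1 ha) ((hker b).1 hb) x
        add := fun a ha x y => (isMC_cX hp ((hker a).1 ha)).add x y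
        zero := fun a ha => (isMC_cX hp ((hker a).1 ha)).zero
        inj := by
          intro a ha h
          apply Subtype.ext
          apply hinj
          rw [Subgroup.coe_one, map_one]
          refine cX_inj hp ((hker a).1 ha) (one_mem _) fun i => ?_
          rw [cX_one]
          exact h _
        chi_act := by
          intro x a ha y
          show cX hp (e1 ((x : ↥(D.group F)) * a * (x : ↥(D.group F))⁻¹)) _ = _
          rw [map_mul, map_mul, map_inv]
          exact cX_rp hp cs hk p (hr x) ((hker a).1 ha) y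
        prim := hζ
        rich := by
          intro i
          have hφ : IsMC (fun x : Fin l → ℤ => ζ ^ x i) :=
            ⟨by simp, fun y z => by show ζ ^ (y i + z i) = _; rw [zpow_add₀ hζ0]⟩
          obtain ⟨t, ht, hc⟩ := exists_cX hp hB one_ne_zero hφ fun j => ⟨_, pow_one _⟩
          have h1 : n * σ t * n⁻¹ = t := by
            rw [htw t ht]
            intro j
            obtain ⟨c, hc4⟩ := h4
            have hz4 : ∀ a : ℤ, (ζ ^ a) ^ 4 = 1 := fun a => by
              rw [← zpow_natCast, ← zpow_mul, mul_comm, zpow_mul, zpow_natCast, hζ.pow_eq_one, one_zpow]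
            rw [hc, hc4, pow_mul, hz4, one_pow]
          obtain ⟨x, hx⟩ := hrange t h1
          have h2 : Rp cs hN 1 (e1 x) := by rw [hx]; exact rp_of_mem ht
          refine ⟨⟨x, (hNdef x).2 ⟨1, h2⟩⟩, rp_inj hp cs hk p hB (hr _) h2, fun y => ?_⟩
          show cX hp (e1 x) y = _
          rw [hx]
          exact hc y }
  · have h1 : Nat.card r.ker = m ^ l := by
      rw [← card_tor (k := AlgebraicClosure F) hp hB hmk]
      refine Nat.card_eq_of_bijective (fun x => ⟨e1 (x : ↥N), (hker _).1 (MonoidHom.mem_ker.1 x.2),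
        (htw _ ((hker _).1 (MonoidHom.mem_ker.1 x.2))).1 (hfix _)⟩) ⟨?_, ?_⟩
      · intro x y h
        exact Subtype.ext (Subtype.ext (hinj (congrArg Subtype.val h)))
      · rintro ⟨t, ht, h2⟩
        obtain ⟨x, hx⟩ := hrange t ((htw t ht).2 h2)
        have h3 : Rp cs hN 1 (e1 x) := by rw [hx]; exact rp_of_mem ht
        exact ⟨⟨⟨x, (hNdef x).2 ⟨1, h3⟩⟩, MonoidHom.mem_ker.2 (rp_inj hp cs hk p hB (hr _) h3)⟩, Subtype.ext hx⟩
    have h2 := r.ker.card_mul_index
    rw [Subgroup.index_ker, MonoidHom.range_eq_top.2 hsurj, Nat.card_congr Subgroup.topEquiv.toEquiv, h1] at h2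
    exact h2.symm

end Fin

end Cfsg.Agent.H796.TorInst
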