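import Mathlib

/-!
# Odd order automorphisms of a 2-group with a large homocyclic normal subgroup (helper796)

`G` a group, `P` a 2-subgroup, `A` an abelian normal subgroup of `P`, described by characters `χ a : ℤ^l → k`, on which
`P` acts through a group `W` of lattice automorphisms (`Dat`). If no element of `W` other than `1`, `-1` is trivial
modulo 2, and some element of `P` has a single Jordan block on the elements of order two of `A`, then the elements of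
odd order normalising `P` centralise `P` (`Dat.main`).
-/

set_option autoImplicit false

namespace Cfsg.Agent.H796.TorRow

open Subgroup

variable {G : Type*} [Group G]

theorem pow_conj {g u c : G} (hc : g * c * g⁻¹ = c) (hu : g * u * g⁻¹ = c * u) (m : ℕ) :
    g ^ m * u * (g ^ m)⁻¹ = c ^ m * u := by
  induction m with
  | zero => simp
  | succ m ih =>
    have hcm : g * c ^ m * g⁻¹ = c ^ m := by rw [← conj_pow, hc]
    calc g ^ (m + 1) * u * (g ^ (m + 1))⁻¹ = g * (g ^ m * u * (g ^ m)⁻¹) * g⁻¹ := by rw [pow_succ']; group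
      _ = (g * c ^ m * g⁻¹) * (g * u * g⁻¹) := by rw [ih]; group
      _ = c ^ (m + 1) * u := by rw [hcm, hu, pow_succ, mul_assoc]

/-- an element of odd order moving `u` by a 2-element which it fixes fixes `u`. -/
theorem eq_one_of_conj {g u c : G} (ho : Odd (orderOf g)) (hc : g * c * g⁻¹ = c) (hu : g * u * g⁻¹ = c * u)
    {n : ℕ} (h2 : c ^ 2 ^ n = 1) : c = 1 := by
  have h1 := pow_conj hc hu (orderOf g)
  rw [pow_orderOf_eq_one, inv_one, mul_one, one_mul] at h1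
  have h3 : c ^ orderOf g = 1 := (mul_eq_right.1 h1.symm)
  have h4 : orderOf c ∣ 2 ^ n := orderOf_dvd_of_pow_eq_one h2
  have h5 : orderOf c ∣ orderOf g := orderOf_dvd_of_pow_eq_one h3
  have h6 : Nat.Coprime (2 ^ n) (orderOf g) := Nat.Coprime.pow_left n (Nat.coprime_two_left.2 ho)
  have h7 : orderOf c ∣ 1 := by
    rw [← h6.gcd_eq_one]
    exact Nat.dvd_gcd h4 h5
  exact orderOf_eq_one_iff.1 (Nat.dvd_one.1 h7)

/-- the commutator of a normal subgroup of a finite 2-group with the group is proper. -/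
theorem comm_lt [Finite G] {P U : Subgroup G} (hP : IsPGroup 2 P) (hU : U ≤ P) (h : U ≤ closure {y | ∃ x ∈ P, ∃ u ∈ U, y = x * u * x⁻¹ * u⁻¹}) :
    U = ⊥ := by
  have : Fact (Nat.Prime 2) := ⟨Nat.prime_two⟩
  have hnil : Group.IsNilpotent P := hP.isNilpotent
  have hn : ∀ n, U ≤ P.lowerCentralSeries n := by
    intro n
    induction n with
    | zero => exact hU
    | succ n ih =>
      refine h.trans ((closure_le _).2 ?_)
      rintro _ ⟨x, hx, u, hu, rfl⟩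
      rw [Subgroup.lowerCentralSeries_succ]
      have h1 := inv_mem (commutator_mem_commutator (ih hu) hx)
      rw [commutatorElement_inv, commutatorElement_def] at h1
      exact h1
  obtain ⟨n, hn'⟩ := (isNilpotent_iff_lowerCentralSeries P).1 hnil
  have := hn n
  rw [hn'] at this
  exact le_bot_iff.1 this

theorem inv_conj_mem [Finite G] {U : Subgroup G} {g : G} (h : ∀ u ∈ U, g * u * g⁻¹ ∈ U) :
    ∀ u ∈ U, g⁻¹ * u * g ∈ U := by
  have h1 : ∀ (n : ℕ), ∀ u ∈ U, g ^ n * u * (g ^ n)⁻¹ ∈ U := by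
    intro n
    induction n with
    | zero => intro u hu; simpa using hu
    | succ n ih =>
      intro u hu
      have h2 := h _ (ih u hu)
      have e : g ^ (n + 1) * u * (g ^ (n + 1))⁻¹ = g * (g ^ n * u * (g ^ n)⁻¹) * g⁻¹ := by rw [pow_succ']; group
      rwa [e]
  intro u hu
  have h2 := h1 (orderOf g - 1) u hu
  have h3 : g ^ (orderOf g - 1) = g⁻¹ := by
    rw [eq_inv_iff_mul_eq_one, ← pow_succ, Nat.sub_add_cancel (orderOf_pos g), pow_orderOf_eq_one]
  rwa [h3, inv_inv] at h2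

/-- **Chain argument.** -/
theorem centralizes_of_chain [Finite G] {P V : Subgroup G} (hP : IsPGroup 2 P) (hVP : V ≤ P) {p : G} (hp : p ∈ P)
    (hcomm : ∀ a ∈ V, ∀ b ∈ V, a * b = b * a)
    (hfix : ∀ v ∈ V, ∀ v' ∈ V, p * v = v * p → p * v' = v' * p → v ≠ 1 → v' ≠ 1 → v = v') {g : G}
    (ho : Odd (orderOf g)) (hgP : ∀ x ∈ P, g * x * g⁻¹ ∈ P) :
    ∀ (n : ℕ) (U : Subgroup G), Nat.card U ≤ n → U ≤ V → (∀ x ∈ P, ∀ u ∈ U, x * u * x⁻¹ ∈ U) →
      (∀ u ∈ U, g * u * g⁻¹ ∈ U) → ∀ u ∈ U, g * u * g⁻¹ = u := by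
  intro n
  induction n with
  | zero =>
    intro U hU
    have : 0 < Nat.card U := Nat.card_pos
    omega
  | succ n ih =>
    intro U hU hUV hUP hUg u hu
    by_cases hbot : U = ⊥
    · rw [hbot] at hu
      rw [mem_bot.1 hu]; group
    obtain ⟨U', hU'⟩ : ∃ U' : Subgroup G, U' = closure {y | ∃ x ∈ P, ∃ u ∈ U, y = x * u * x⁻¹ * u⁻¹} := ⟨_, rfl⟩
    have hU'U : U' ≤ U := by
      rw [hU', closure_le]
      rintro _ ⟨x, hx, u, hu, rfl⟩
      exact mul_mem (hUP x hx u hu) (inv_mem hu)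
    have hne : U' ≠ U := by
      intro h
      exact hbot (comm_lt hP (hUV.trans hVP) (by rw [← hU', h]))
    have hlt : Nat.card U' < Nat.card U := by
      have h1 : Nat.card U' ≤ Nat.card U := Nat.card_le_card_of_injective _ (inclusion_injective hU'U)
      rcases h1.lt_or_eq with h2 | h2
      · exact h2
      · exact absurd (eq_of_le_of_card_ge hU'U h2.ge) hne
    have hU'P : ∀ x ∈ P, ∀ u ∈ U', x * u * x⁻¹ ∈ U' := by
      intro y hy
      have h1 : U' ≤ U'.comap (MulAut.conj y).toMonoidHom := by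
        conv_lhs => rw [hU']
        rw [closure_le]
        rintro _ ⟨x, hx, u, hu, rfl⟩
        show y * (x * u * x⁻¹ * u⁻¹) * y⁻¹ ∈ U'
        rw [hU']
        refine subset_closure ⟨y * x * y⁻¹, mul_mem (mul_mem hy hx) (inv_mem hy), y * u * y⁻¹, hUP y hy u hu, ?_⟩
        group
      exact fun u hu => h1 hu
    have hU'g : ∀ u ∈ U', g * u * g⁻¹ ∈ U' := by
      have h1 : U' ≤ U'.comap (MulAut.conj g).toMonoidHom := by
        conv_lhs => rw [hU']
        rw [closure_le]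
        rintro _ ⟨x, hx, u, hu, rfl⟩
        show g * (x * u * x⁻¹ * u⁻¹) * g⁻¹ ∈ U'
        rw [hU']
        refine subset_closure ⟨g * x * g⁻¹, hgP x hx, g * u * g⁻¹, hUg u hu, ?_⟩
        group
      exact fun u hu => h1 hu
    have hfixU' := ih U' (by omega) (hU'U.trans hUV) hU'P hU'g
    -- the index is at most two
    have hidx : ∀ a ∈ U, ∀ b ∈ U, a ∉ U' → b ∉ U' → a * b ∈ U' := by
      let δ : U →* U := 
        { toFun := fun a => ⟨p * a * p⁻¹ * (a : G)⁻¹, mul_mem (hUP p hp a a.2) (inv_mem a.2)⟩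
          map_one' := Subtype.ext (by simp)
          map_mul' := fun a b => Subtype.ext (by
            have h1 := hcomm _ (hUV (mul_mem (hUP p hp b b.2) (inv_mem b.2))) _ (hUV (inv_mem a.2))
            show p * ((a : G) * b) * p⁻¹ * ((a : G) * b)⁻¹ = p * a * p⁻¹ * (a : G)⁻¹ * (p * b * p⁻¹ * (b : G)⁻¹)
            calc p * ((a : G) * b) * p⁻¹ * ((a : G) * b)⁻¹ =
                p * a * p⁻¹ * ((p * b * p⁻¹ * (b : G)⁻¹) * (a : G)⁻¹) := by group
              _ = p * a * p⁻¹ * ((a : G)⁻¹ * (p * b * p⁻¹ * (b : G)⁻¹)) := by rw [h1]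
              _ = _ := by group) }
      have hδ : ∀ a : U, ((δ a : U) : G) = p * a * p⁻¹ * (a : G)⁻¹ := fun a => rfl
      have hker : Nat.card δ.ker ≤ 2 := by
        have h1 : ∀ a : δ.ker, p * ((a : U) : G) = ((a : U) : G) * p := by
          intro a
          have h2 := congrArg Subtype.val (MonoidHom.mem_ker.1 a.2)
          rw [hδ] at h2
          have h3 : p * ((a : U) : G) * p⁻¹ * ((a : U) : G)⁻¹ = 1 := h2
          calc p * ((a : U) : G) = p * ((a : U) : G) * p⁻¹ * ((a : U) : G)⁻¹ * (((a : U) : G) * p) := by group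
            _ = _ := by rw [h3, one_mul]
        by_cases hb : ∀ a : δ.ker, a = 1
        · have : Subsingleton δ.ker := ⟨fun a b => by rw [hb a, hb b]⟩
          rw [Nat.card_eq_one_iff_unique.2 ⟨this, ⟨1⟩⟩]
          norm_num
        · push Not at hb
          obtain ⟨v, hv⟩ := hb
          have h3 : ∀ a : δ.ker, a ≠ 1 → a = v := fun a ha => by
            apply Subtype.ext
            apply Subtype.ext
            exact hfix _ (hUV (a : U).2) _ (hUV (v : U).2) (h1 a) (h1 v)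
              (fun h => ha (Subtype.ext (Subtype.ext h))) (fun h => hv (Subtype.ext (Subtype.ext h)))
          have h4 : Nat.card δ.ker ≤ Nat.card Bool := by
            refine Nat.card_le_card_of_surjective (fun b : Bool => if b then (1 : δ.ker) else v) fun a => ?_
            by_cases ha : a = 1
            · exact ⟨true, by rw [ha]; rfl⟩
            · exact ⟨false, by rw [h3 a ha]; rfl⟩
          have h5 : Nat.card Bool = 2 := by rw [Nat.card_eq_fintype_card, Fintype.card_bool]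
          rwa [h5] at h4
      have hcard : Nat.card U = Nat.card δ.range * Nat.card δ.ker := by
        rw [mul_comm]
        have := δ.ker.card_mul_index
        rw [Subgroup.index_ker] at this
        exact this.symm
      have hle : δ.range ≤ U'.subgroupOf U := by
        rintro _ ⟨a, rfl⟩
        rw [mem_subgroupOf, hδ, hU']
        exact subset_closure ⟨p, hp, a, a.2, rfl⟩
      have hidx2 : (U'.subgroupOf U).index ≤ 2 := by
        have h1 : (U'.subgroupOf U).index ∣ δ.range.index := index_dvd_of_le hle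
        have h2 : δ.range.index = Nat.card δ.ker := by
          have h3 := δ.range.card_mul_index
          rw [hcard] at h3
          exact Nat.eq_of_mul_eq_mul_left Nat.card_pos h3
        rw [h2] at h1
        exact (Nat.le_of_dvd Nat.card_pos h1).trans hker
      intro a ha b hb ha' hb'
      have h2 : (U'.subgroupOf U).index = 2 := by
        have h3 : (U'.subgroupOf U).index ≠ 1 := by
          intro h4
          rw [index_eq_one] at h4
          have : (⟨a, ha⟩ : U) ∈ U'.subgroupOf U := by rw [h4]; exact mem_top _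
          exact ha' (mem_subgroupOf.1 this)
        have h5 : (U'.subgroupOf U).index ≠ 0 := index_ne_zero_of_finite
        omega
      have h3 := (mul_mem_iff_of_index_two h2 (a := ⟨a, ha⟩) (b := ⟨b, hb⟩)).2
        ⟨fun h => absurd (mem_subgroupOf.1 h) ha', fun h => absurd (mem_subgroupOf.1 h) hb'⟩
      exact mem_subgroupOf.1 h3
    by_cases hu' : u ∈ U'
    · exact hfixU' u hu'
    have h1 : g * u * g⁻¹ ∉ U' := by
      intro h2
      have h3 := inv_conj_mem hU'g _ h2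
      have e : g⁻¹ * (g * u * g⁻¹) * g = u := by group
      rw [e] at h3
      exact hu' h3
    have h2 : g * u * g⁻¹ * u⁻¹ ∈ U' := hidx _ (hUg u hu) _ (inv_mem hu) h1 fun h => hu' (inv_mem_iff.1 h)
    have h3 : g * u * g⁻¹ * u⁻¹ = 1 := by
      obtain ⟨k, hk⟩ := hP ⟨_, hVP (hUV (hU'U h2))⟩
      refine eq_one_of_conj (g := g) (u := u) ho (hfixU' _ h2) (by group) (n := k) ?_
      exact congrArg Subtype.val hk
    exact mul_inv_eq_one.1 h3

/-! ### the data -/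

/-- `A` abelian normal in the 2-group `P`, with characters `χ a`, on which `P` acts through `act (ρ x)`. -/
structure Dat (P A : Subgroup G) {W : Type*} [Group W] {l : ℕ} (act : W →* Module.End ℤ (Fin l → ℤ)) (ρ : G → W)
    {k : Type*} [Field k] (χ : G → (Fin l → ℤ) → k) (ζ : k) : Prop where
  le : A ≤ P
  two : IsPGroup 2 P
  conj : ∀ x ∈ P, ∀ a ∈ A, x * a * x⁻¹ ∈ A
  comm : ∀ a ∈ A, ∀ b ∈ A, a * b = b * a
  rho_mul : ∀ x ∈ P, ∀ y ∈ P, ρ (x * y) = ρ x * ρ y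
  ker : ∀ x ∈ P, ρ x = 1 → x ∈ A
  ker' : ∀ x ∈ A, ρ x = 1
  mul : ∀ a ∈ A, ∀ b ∈ A, ∀ x, χ (a * b) x = χ a x * χ b x
  add : ∀ a ∈ A, ∀ x y, χ a (x + y) = χ a x * χ a y
  zero : ∀ a ∈ A, χ a 0 = 1
  inj : ∀ a ∈ A, (∀ x, χ a x = 1) → a = 1
  chi_act : ∀ p ∈ P, ∀ a ∈ A, ∀ x, χ (p * a * p⁻¹) (act (ρ p) x) = χ a x
  prim : IsPrimitiveRoot ζ 4
  rich : ∀ i : Fin l, ∃ t ∈ A, ∀ x, χ t x = ζ ^ (x i)

namespace Dat

variable {P A : Subgroup G} {W : Type*} [Group W] {l : ℕ} {act : W →* Module.End ℤ (Fin l → ℤ)} {ρ : G → W}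
  {k : Type*} [Field k] {χ : G → (Fin l → ℤ) → k} {ζ : k} (D : Dat P A act ρ χ ζ)

include D

theorem ne_zero {a : G} (ha : a ∈ A) (x : Fin l → ℤ) : χ a x ≠ 0 := by
  have h := D.add a ha x (-x)
  rw [add_neg_cancel, D.zero a ha] at h
  exact left_ne_zero_of_mul_eq_one h.symm

theorem neg {a : G} (ha : a ∈ A) (x : Fin l → ℤ) : χ a (-x) = (χ a x)⁻¹ := by
  have h := D.add a ha x (-x)
  rw [add_neg_cancel, D.zero a ha] at h
  exact eq_inv_of_mul_eq_one_right h.symm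

theorem sub {a : G} (ha : a ∈ A) (x y : Fin l → ℤ) : χ a (x - y) = χ a x / χ a y := by
  rw [sub_eq_add_neg, D.add a ha, D.neg ha, div_eq_mul_inv]

theorem one (x : Fin l → ℤ) : χ 1 x = 1 := by
  have h := D.mul 1 (one_mem A) 1 (one_mem A) x
  rw [mul_one] at h
  exact (mul_eq_left₀ (D.ne_zero (one_mem A) x)).1 h.symm

theorem inv {a : G} (ha : a ∈ A) (x : Fin l → ℤ) : χ a⁻¹ x = (χ a x)⁻¹ := by
  have h := D.mul a ha a⁻¹ (inv_mem ha) x
  rw [mul_inv_cancel, D.one] at h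
  exact eq_inv_of_mul_eq_one_right h.symm

theorem zsmul {a : G} (ha : a ∈ A) (n : ℤ) (x : Fin l → ℤ) : χ a (n • x) = χ a x ^ n := by
  have h : ∀ n : ℕ, χ a (n • x) = χ a x ^ n := by
    intro n
    induction n with
    | zero => rw [zero_smul, D.zero a ha, pow_zero]
    | succ n ih => rw [succ_nsmul, D.add a ha, ih, pow_succ]
  obtain ⟨m, rfl | rfl⟩ := Int.eq_nat_or_neg n
  · rw [natCast_zsmul, h, zpow_natCast]
  · rw [neg_smul, natCast_zsmul, D.neg ha, h, zpow_neg, zpow_natCast]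

theorem ext {a b : G} (ha : a ∈ A) (hb : b ∈ A) (h : ∀ x, χ a x = χ b x) : a = b := by
  have h1 : a * b⁻¹ = 1 := by
    refine D.inj _ (mul_mem ha (inv_mem hb)) fun x => ?_
    rw [D.mul a ha b⁻¹ (inv_mem hb), D.inv hb, h x, mul_inv_cancel₀ (D.ne_zero hb x)]
  exact mul_inv_eq_one.1 h1

theorem zeta_zpow (n : ℤ) : ζ ^ n = 1 ↔ (4 : ℤ) ∣ n := D.prim.zpow_eq_one_iff_dvd n

theorem zeta_ne : ζ ≠ 0 := D.prim.ne_zero (by norm_num)

/-- if all the characters are trivial on `2 x`, then `x` is even. -/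
theorem even_of {x : Fin l → ℤ} (h : ∀ t ∈ A, χ t x ^ 2 = 1) : ∃ y, x = (2 : ℤ) • y := by
  have h1 : ∀ i, (2 : ℤ) ∣ x i := by
    intro i
    obtain ⟨t, ht, h2⟩ := D.rich i
    have h3 := h t ht
    rw [h2, ← zpow_natCast, ← zpow_mul, D.zeta_zpow] at h3
    obtain ⟨c, hc⟩ := h3
    exact ⟨c, by push_cast at hc; omega⟩
  choose y hy using h1
  exact ⟨y, funext fun i => hy i⟩

/-- an element of `P` centralising `A` is in `A`. -/
theorem mem_of_comm (hl : 0 < l) (hK : ∀ w : W, (∀ x, ∃ y, act w x - x = (2 : ℤ) • y) →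
    w = 1 ∨ ∀ x, act w x = -x) {p : G} (hp : p ∈ P) (h : ∀ t ∈ A, p * t * p⁻¹ = t) : p ∈ A := by
  have h1 : ∀ t ∈ A, ∀ x, χ t (act (ρ p) x - x) = 1 := by
    intro t ht x
    have h2 := D.chi_act p hp t ht x
    rw [h t ht] at h2
    rw [D.sub ht, h2, div_self (D.ne_zero ht x)]
  rcases hK (ρ p) (fun x => D.even_of fun t ht => by rw [h1 t ht x, one_pow]) with h2 | h2
  · exact D.ker p hp h2
  · exfalso
    obtain ⟨t, ht, h3⟩ := D.rich ⟨0, hl⟩
    have h4 := h1 t ht (Pi.single ⟨0, hl⟩ 1)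
    rw [h2, h3, D.zeta_zpow] at h4
    simp only [Pi.sub_apply, Pi.neg_apply, Pi.single_eq_same] at h4
    norm_num at h4

/-- the quadratic case: an element of `P` outside of `A` with the properties of the elements of a conjugate of `A`
inverts `A`. -/
theorem inverts (hK : ∀ w : W, (∀ x, ∃ y, act w x - x = (2 : ℤ) • y) →
    w = 1 ∨ ∀ x, act w x = -x) {b : G} (hb : b ∈ P) (hbA : b ∉ A)
    (h : ∀ t ∈ A, (b * t * b⁻¹ * t⁻¹) * (b * t * b⁻¹ * t⁻¹) = 1) : ∀ t ∈ A, b * t * b⁻¹ = t⁻¹ := by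
  have h1 : ∀ t ∈ A, ∀ x, χ t (act (ρ b) x - x) ^ 2 = 1 := by
    intro t ht x
    have hc := D.conj b hb t ht
    have h2 := D.chi_act b hb t ht x
    have h3 : χ (b * t * b⁻¹ * t⁻¹) (act (ρ b) x) = χ t x / χ t (act (ρ b) x) := by
      rw [D.mul _ hc _ (inv_mem ht), h2, D.inv ht, div_eq_mul_inv]
    have h4 : χ (b * t * b⁻¹ * t⁻¹) (act (ρ b) x) ^ 2 = 1 := by
      rw [pow_two, ← D.mul _ (mul_mem hc (inv_mem ht)) _ (mul_mem hc (inv_mem ht)), h t ht, D.one]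
    rw [D.sub ht]
    have h5 : χ t (act (ρ b) x) / χ t x = (χ (b * t * b⁻¹ * t⁻¹) (act (ρ b) x))⁻¹ := by rw [h3, inv_div]
    rw [h5, inv_pow, h4, inv_one]
  rcases hK (ρ b) (fun x => D.even_of fun t ht => h1 t ht x) with h2 | h2
  · exact absurd (D.ker b hb h2) hbA
  intro t ht
  refine D.ext (D.conj b hb t ht) (inv_mem ht) fun x => ?_
  have h3 := D.chi_act b hb t ht (-x)
  rw [h2, neg_neg] at h3
  rw [h3, D.neg ht, D.inv ht]

/-- **The elements normalising `P` normalise `A`.** -/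
theorem normalizes [Finite G] (hl : 2 ≤ l) (hK : ∀ w : W, (∀ x, ∃ y, act w x - x = (2 : ℤ) • y) →
    w = 1 ∨ ∀ x, act w x = -x) {g : G} (hg : ∀ x ∈ P, g * x * g⁻¹ ∈ P) : ∀ a ∈ A, g * a * g⁻¹ ∈ A := by
  by_contra hcon
  push Not at hcon
  obtain ⟨a₀, ha₀, hb₀⟩ := hcon
  have hg' := inv_conj_mem hg
  -- the conjugate `B`
  obtain ⟨B, hB⟩ : ∃ B : Subgroup G, B = A.map (MulAut.conj g).toMonoidHom := ⟨_, rfl⟩
  have hBm : ∀ y, y ∈ B ↔ g⁻¹ * y * g ∈ A := by
    intro y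
    rw [hB]
    constructor
    · rintro ⟨a, ha, rfl⟩
      have e : g⁻¹ * (g * a * g⁻¹) * g = a := by group
      show g⁻¹ * (g * a * g⁻¹) * g ∈ A
      rwa [e]
    · intro h
      exact ⟨_, h, by show g * (g⁻¹ * y * g) * g⁻¹ = y; group⟩
  have hBP : B ≤ P := by
    intro y hy
    have h1 := hg _ (D.le ((hBm y).1 hy))
    have e : g * (g⁻¹ * y * g) * g⁻¹ = y := by group
    rwa [e] at h1
  have hBc : ∀ x ∈ B, ∀ y ∈ B, x * y = y * x := by
    intro x hx y hy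
    have h1 := D.comm _ ((hBm x).1 hx) _ ((hBm y).1 hy)
    calc x * y = g * (g⁻¹ * x * g * (g⁻¹ * y * g)) * g⁻¹ := by group
      _ = g * (g⁻¹ * y * g * (g⁻¹ * x * g)) * g⁻¹ := by rw [h1]
      _ = y * x := by group
  have hBn : ∀ x ∈ P, ∀ b ∈ B, x * b * x⁻¹ ∈ B := by
    intro x hx b hb
    rw [hBm] at hb ⊢
    have h1 := D.conj _ (hg' x hx) _ hb
    have e : g⁻¹ * x * g * (g⁻¹ * b * g) * (g⁻¹ * x * g)⁻¹ = g⁻¹ * (x * b * x⁻¹) * g := by group
    rwa [e] at h1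
  -- commutators
  have hcom : ∀ b ∈ B, ∀ t ∈ A, b * t * b⁻¹ * t⁻¹ ∈ A ∧ b * t * b⁻¹ * t⁻¹ ∈ B := by
    intro b hb t ht
    refine ⟨mul_mem (D.conj b (hBP hb) t ht) (inv_mem ht), ?_⟩
    have h1 := mul_mem hb (hBn t (D.le ht) b⁻¹ (inv_mem hb))
    have e : b * (t * b⁻¹ * t⁻¹) = b * t * b⁻¹ * t⁻¹ := by group
    rwa [e] at h1
  have hsq : ∀ b ∈ B, (∀ t ∈ A, b * b * t * (b * b)⁻¹ = t) → ∀ t ∈ A,
      (b * t * b⁻¹ * t⁻¹) * (b * t * b⁻¹ * t⁻¹) = 1 := by
    intro b hb hbb t ht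
    obtain ⟨h1, h2⟩ := hcom b hb t ht
    obtain ⟨c, hc⟩ : ∃ c, c = b * t * b⁻¹ * t⁻¹ := ⟨_, rfl⟩
    rw [← hc] at h1 h2 ⊢
    have h3 : b * c * b⁻¹ = c := by rw [hBc b hb c h2]; group
    have h4 : b * t * b⁻¹ = c * t := by rw [hc]; group
    have h5 := hbb t ht
    have h6 : b * b * t * (b * b)⁻¹ = c * (c * t) := by
      calc b * b * t * (b * b)⁻¹ = b * (b * t * b⁻¹) * b⁻¹ := by group
        _ = b * (c * t) * b⁻¹ := by rw [h4]
        _ = (b * c * b⁻¹) * (b * t * b⁻¹) := by group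
        _ = c * (c * t) := by rw [h3, h4]
    rw [h5] at h6
    have h7 : c * c * t = 1 * t := by rw [mul_assoc, ← h6, one_mul]
    exact mul_right_cancel h7
  -- an element of `B` outside of `A` with square in `A`
  obtain ⟨b, hb, hbA, hbb⟩ : ∃ b ∈ B, b ∉ A ∧ b * b ∈ A := by
    have h1 : g * a₀ * g⁻¹ ∈ B := by rw [hB]; exact ⟨a₀, ha₀, rfl⟩
    obtain ⟨m, hm⟩ := D.two ⟨_, hBP h1⟩
    have hm' : (g * a₀ * g⁻¹) ^ 2 ^ m = 1 := congrArg Subtype.val hm
    classical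
    have hex : ∃ m, (g * a₀ * g⁻¹) ^ 2 ^ m ∈ A := ⟨m, by rw [hm']; exact one_mem A⟩
    obtain ⟨j, hj⟩ : ∃ j, Nat.find hex = j + 1 := by
      refine ⟨Nat.find hex - 1, ?_⟩
      have : Nat.find hex ≠ 0 := by
        intro h0
        have h2 := Nat.find_spec hex
        rw [h0, pow_zero, pow_one] at h2
        exact hb₀ h2
      omega
    refine ⟨(g * a₀ * g⁻¹) ^ 2 ^ j, pow_mem h1 _, Nat.find_min hex (by omega), ?_⟩
    have h2 := Nat.find_spec hex
    rw [hj, pow_succ, mul_two, pow_add] at h2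
    exact h2
  have hinv := D.inverts hK (hBP hb) hbA (hsq b hb fun t ht => by
    rw [D.comm _ hbb _ ht]; group)
  -- the elements of `A ∩ B` have square one
  have hAB : ∀ c ∈ A, c ∈ B → c * c = 1 := by
    intro c hc hcB
    have h1 := hinv c hc
    rw [hBc b hb c hcB, mul_inv_cancel_right] at h1
    calc c * c = c⁻¹ * c := by rw [← h1]
      _ = 1 := inv_mul_cancel c
  have hout : ∀ b₁ ∈ B, b₁ ∉ A → b * b₁ ∈ A := by
    intro b₁ hb₁ hb₁A
    have h1 : ∀ t ∈ A, b₁ * b₁ * t * (b₁ * b₁)⁻¹ = t := by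
      intro t ht
      obtain ⟨h1, h2⟩ := hcom b₁ hb₁ t ht
      obtain ⟨c, hc⟩ : ∃ c, c = b₁ * t * b₁⁻¹ * t⁻¹ := ⟨_, rfl⟩
      rw [← hc] at h1 h2
      have h3 : b₁ * c * b₁⁻¹ = c := by rw [hBc b₁ hb₁ c h2]; group
      have h4 : b₁ * t * b₁⁻¹ = c * t := by rw [hc]; group
      calc b₁ * b₁ * t * (b₁ * b₁)⁻¹ = b₁ * (b₁ * t * b₁⁻¹) * b₁⁻¹ := by group
        _ = b₁ * (c * t) * b₁⁻¹ := by rw [h4]
        _ = (b₁ * c * b₁⁻¹) * (b₁ * t * b₁⁻¹) := by group
        _ = c * c * t := by rw [h3, h4, mul_assoc]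
        _ = t := by rw [hAB c h1 h2, one_mul]
    have h2 := D.inverts hK (hBP hb₁) hb₁A (hsq b₁ hb₁ h1)
    refine D.mem_of_comm (by omega) hK (mul_mem (hBP hb) (hBP hb₁)) fun t ht => ?_
    calc b * b₁ * t * (b * b₁)⁻¹ = b * (b₁ * t * b₁⁻¹) * b⁻¹ := by group
      _ = t := by rw [h2 t ht, hinv _ (inv_mem ht), inv_inv]
  -- two elements of order four
  obtain ⟨t₁, ht₁, e₁⟩ := D.rich ⟨0, by omega⟩
  obtain ⟨t₂, ht₂, e₂⟩ := D.rich ⟨1, by omega⟩
  have key : ∀ t ∈ A, g * t * g⁻¹ ∈ A → t * t = 1 := by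
    intro t ht h1
    have h2 : g * t * g⁻¹ ∈ B := by rw [hB]; exact ⟨t, ht, rfl⟩
    have h3 := hAB _ h1 h2
    calc t * t = g⁻¹ * (g * t * g⁻¹ * (g * t * g⁻¹)) * g := by group
      _ = 1 := by rw [h3]; group
  have hne : ∀ t ∈ A, ∀ x, χ t x ^ 2 ≠ 1 → t * t ≠ 1 := by
    intro t ht x h1 h2
    apply h1
    rw [pow_two, ← D.mul t ht t ht, h2, D.one]
  have h01 : (⟨0, by omega⟩ : Fin l) ≠ ⟨1, by omega⟩ := by
    intro h
    exact absurd (congrArg Fin.val h) (by norm_num)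
  have hz2 : ζ ^ 2 ≠ 1 := by
    intro h
    have h1 := (D.zeta_zpow ((2 : ℕ) : ℤ)).1 (by rw [zpow_natCast]; exact h)
    norm_num at h1
  have h1 : t₁ * t₁ ≠ 1 := hne t₁ ht₁ (Pi.single ⟨0, by omega⟩ 1) (by
    rw [e₁, Pi.single_eq_same, zpow_one]; exact hz2)
  have h2 : t₂ * t₂ ≠ 1 := hne t₂ ht₂ (Pi.single ⟨1, by omega⟩ 1) (by
    rw [e₂, Pi.single_eq_same, zpow_one]; exact hz2)
  have h3 : (t₁⁻¹ * t₂) * (t₁⁻¹ * t₂) ≠ 1 := hne _ (mul_mem (inv_mem ht₁) ht₂) (Pi.single ⟨1, by omega⟩ 1) (by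
    rw [D.mul _ (inv_mem ht₁) _ ht₂, D.inv ht₁, e₁, e₂, Pi.single_eq_same, Pi.single_eq_of_ne h01, zpow_one, zpow_zero,
      inv_one, one_mul]
    exact hz2)
  have hB1 : g * t₁ * g⁻¹ ∈ B := by rw [hB]; exact ⟨t₁, ht₁, rfl⟩
  have hB2 : g * t₂ * g⁻¹ ∈ B := by rw [hB]; exact ⟨t₂, ht₂, rfl⟩
  have h4 := hout _ hB1 fun h => h1 (key t₁ ht₁ h)
  have h5 := hout _ hB2 fun h => h2 (key t₂ ht₂ h)
  apply h3
  refine key _ (mul_mem (inv_mem ht₁) ht₂) ?_
  have h6 := mul_mem (inv_mem h4) h5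
  have e : (b * (g * t₁ * g⁻¹))⁻¹ * (b * (g * t₂ * g⁻¹)) = g * (t₁⁻¹ * t₂) * g⁻¹ := by group
  rwa [e] at h6

/-- **The elements of odd order normalising `P` centralise `P`.** -/
theorem main [Finite G] (hl : 2 ≤ l) (hK : ∀ w : W, (∀ x, ∃ y, act w x - x = (2 : ℤ) • y) →
    w = 1 ∨ ∀ x, act w x = -x)
    (hJ : ∃ p ∈ P, ∃ x₁, ∀ x, ∃ (m : ℤ) (y z : Fin l → ℤ), x = m • x₁ + (act (ρ p) y - y) + (2 : ℤ) • z)
    {g : G} (ho : Odd (orderOf g)) (hg : ∀ x ∈ P, g * x * g⁻¹ ∈ P) : ∀ s ∈ P, g * s * g⁻¹ = s := by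
  have hA := D.normalizes hl hK hg
  -- the elements of order two
  obtain ⟨V, hV⟩ : ∃ V : Subgroup G, ∀ v, v ∈ V ↔ v ∈ A ∧ v * v = 1 := by
    refine ⟨{ carrier := {v | v ∈ A ∧ v * v = 1}
              mul_mem' := ?_, one_mem' := ⟨one_mem A, one_mul 1⟩, inv_mem' := ?_ }, fun v => Iff.rfl⟩
    · rintro a b ⟨ha, ha'⟩ ⟨hb, hb'⟩
      refine ⟨mul_mem ha hb, ?_⟩
      calc a * b * (a * b) = a * (b * a) * b := by group
        _ = a * (a * b) * b := by rw [D.comm b hb a ha]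
        _ = a * a * (b * b) := by group
        _ = 1 := by rw [ha', hb', one_mul]
    · rintro a ⟨ha, ha'⟩
      exact ⟨inv_mem ha, by rw [← mul_inv_rev, ha', inv_one]⟩
  obtain ⟨p, hp, x₁, hx₁⟩ := hJ
  have hVfix : ∀ v ∈ V, g * v * g⁻¹ = v := by
    refine centralizes_of_chain D.two (fun v hv => D.le ((hV v).1 hv).1) hp
      (fun a ha b hb => D.comm a ((hV a).1 ha).1 b ((hV b).1 hb).1) ?_ ho hg (Nat.card V) V le_rfl le_rfl ?_ ?_
    · have hval : ∀ v ∈ V, p * v = v * p → ∀ x, ∃ m : ℤ, (∀ v' ∈ V, p * v' = v' * p → χ v' x = χ v' x₁ ^ m) := by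
        intro v _ _ x
        obtain ⟨m, y, z, e⟩ := hx₁ x
        refine ⟨m, fun v' hv' hpv' => ?_⟩
        have hvA := ((hV v').1 hv').1
        have h1 := D.chi_act p hp v' hvA y
        have h2 : p * v' * p⁻¹ = v' := by rw [hpv']; group
        rw [h2] at h1
        have h3 : χ v' ((2 : ℤ) • z) = 1 := by
          rw [D.zsmul hvA, zpow_two, ← D.mul _ hvA _ hvA, ((hV v').1 hv').2, D.one]
        conv_lhs => rw [e]
        rw [D.add _ hvA, D.add _ hvA, D.zsmul hvA, D.sub hvA, h1, div_self (D.ne_zero hvA y), mul_one, h3, mul_one]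
      have hm1 : ∀ v ∈ V, p * v = v * p → v ≠ 1 → χ v x₁ = -1 := by
        intro v hv hpv hv1
        have hvA := ((hV v).1 hv).1
        have h1 : χ v x₁ ^ 2 = 1 := by rw [pow_two, ← D.mul _ hvA _ hvA, ((hV v).1 hv).2, D.one]
        rcases (show χ v x₁ = 1 ∨ χ v x₁ = -1 by
            have h3 : (χ v x₁ - 1) * (χ v x₁ + 1) = 0 := by linear_combination h1
            rcases mul_eq_zero.1 h3 with h4 | h4
            · exact Or.inl (sub_eq_zero.1 h4)
            · exact Or.inr (eq_neg_of_add_eq_zero_left h4)) with h2 | h2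
        · exfalso
          apply hv1
          refine D.inj v hvA fun x => ?_
          obtain ⟨m, hm⟩ := hval v hv hpv x
          rw [hm v hv hpv, h2, one_zpow]
        · exact h2
      intro v hv v' hv' hpv hpv' hv1 hv1'
      refine D.ext ((hV v).1 hv).1 ((hV v').1 hv').1 fun x => ?_
      obtain ⟨m, hm⟩ := hval v hv hpv x
      rw [hm v hv hpv, hm v' hv' hpv', hm1 v hv hpv hv1, hm1 v' hv' hpv' hv1']
    · intro x hx v hv
      rw [hV] at hv ⊢
      refine ⟨D.conj x hx v hv.1, ?_⟩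
      calc x * v * x⁻¹ * (x * v * x⁻¹) = x * (v * v) * x⁻¹ := by group
        _ = 1 := by rw [hv.2]; group
    · intro v hv
      rw [hV] at hv ⊢
      refine ⟨hA v hv.1, ?_⟩
      calc g * v * g⁻¹ * (g * v * g⁻¹) = g * (v * v) * g⁻¹ := by group
        _ = 1 := by rw [hv.2]; group
  -- `g` centralises `A`
  have hAfix : ∀ n : ℕ, ∀ a ∈ A, a ^ 2 ^ n = 1 → g * a * g⁻¹ = a := by
    intro n
    induction n with
    | zero =>
      intro a _ h
      rw [pow_zero, pow_one] at h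
      rw [h]; group
    | succ n ih =>
      intro a ha h
      have h1 : g * (a * a) * g⁻¹ = a * a := by
        refine ih (a * a) (mul_mem ha ha) ?_
        rw [← pow_two, ← pow_mul, ← pow_succ']
        exact h
      have hc : g * a * g⁻¹ * a⁻¹ ∈ A := mul_mem (hA a ha) (inv_mem ha)
      have h2 : g * a * g⁻¹ * a⁻¹ * (g * a * g⁻¹ * a⁻¹) = 1 := by
        calc g * a * g⁻¹ * a⁻¹ * (g * a * g⁻¹ * a⁻¹) = g * a * g⁻¹ * (a⁻¹ * (g * a * g⁻¹)) * a⁻¹ := by group
          _ = g * a * g⁻¹ * ((g * a * g⁻¹) * a⁻¹) * a⁻¹ := by rw [D.comm _ (inv_mem ha) _ (hA a ha)]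
          _ = g * (a * a) * g⁻¹ * (a * a)⁻¹ := by group
          _ = 1 := by rw [h1, mul_inv_cancel]
      have h3 : g * a * g⁻¹ * a⁻¹ = 1 := by
        refine eq_one_of_conj (g := g) (u := a) ho (hVfix _ ((hV _).2 ⟨hc, h2⟩)) (by group) (n := 1) ?_
        rw [pow_one, pow_two]
        exact h2
      exact mul_inv_eq_one.1 h3
  have hAfix' : ∀ a ∈ A, g * a * g⁻¹ = a := by
    intro a ha
    obtain ⟨n, hn⟩ := D.two ⟨a, D.le ha⟩
    exact hAfix n a ha (congrArg Subtype.val hn)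
  intro s hs
  have h1 : s⁻¹ * (g * s * g⁻¹) ∈ A := by
    refine D.mem_of_comm (by omega) hK (mul_mem (inv_mem hs) (hg s hs)) fun t ht => ?_
    have h2 : g⁻¹ * t * g = t := by
      calc g⁻¹ * t * g = g⁻¹ * (g * t * g⁻¹) * g := by rw [hAfix' t ht]
        _ = t := by group
    calc s⁻¹ * (g * s * g⁻¹) * t * (s⁻¹ * (g * s * g⁻¹))⁻¹ = s⁻¹ * (g * (s * (g⁻¹ * t * g) * s⁻¹) * g⁻¹) * s := by group
      _ = s⁻¹ * (g * (s * t * s⁻¹) * g⁻¹) * s := by rw [h2]
      _ = s⁻¹ * (s * t * s⁻¹) * s := by rw [hAfix' _ (D.conj s hs t ht)]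
      _ = t := by group
  have h2 : s * (s⁻¹ * (g * s * g⁻¹)) * s⁻¹ ∈ A := D.conj s hs _ h1
  have e : s * (s⁻¹ * (g * s * g⁻¹)) * s⁻¹ = g * s * g⁻¹ * s⁻¹ := by group
  rw [e] at h2
  obtain ⟨n, hn⟩ := D.two ⟨_, D.le h2⟩
  have h3 : g * s * g⁻¹ * s⁻¹ = 1 :=
    eq_one_of_conj (g := g) (u := s) ho (hAfix' _ h2) (by group) (n := n) (congrArg Subtype.val hn)
  exact mul_inv_eq_one.1 h3

end Dat

end Cfsg.Agent.H796.TorRow
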